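import Cfsg.Agent.InvOdd.Torus
import Mathlib.GroupTheory.Subgroup.Centralizer

/-!
# The order of the centraliser of a torus element of order two
-/

set_option autoImplicit false
set_option linter.style.haveILetI false

namespace CfsgLib.InvOdd

open Cfsg.Lie CfsgLib CfsgLib.Chevalley CfsgLib.ChevTorus CfsgLib.LangTorus CfsgLib.LangChev
open CfsgLib.ChevSubfield
open scoped MatrixGroups

variable {D : ChevalleyDatum} {C : Weyl.Cert D.rank} {M : CoxeterMatrix (Fin D.rank)}
  {R : Weyl.RootTable}

/-- The positive roots fixed by a code. -/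
def posFixed (D : ChevalleyDatum) (e : Fin D.rank → Bool) : Finset (Root D) :=
  Finset.univ.filter fun r => half D ≤ (r : ℕ) ∧ Fixes D e r

/-- The fixed positive roots which `w` makes negative. -/
def invFixed (h : Weyl.RootGood C M R) (e : Fin D.rank → Bool) (w : M.Group) : Finset (Root D) :=
  Finset.univ.filter fun r =>
    (half D ≤ (r : ℕ) ∧ (h.rootPerm w r : ℕ) < half D) ∧ Fixes D e r

open scoped Classical in
/-- The stabiliser of a code as a finite set. -/
noncomputable def stabSet (h : Weyl.RootGood C M R) (e : Fin D.rank → Bool) : Finset M.Group :=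
  letI := h.finite_group
  letI := Fintype.ofFinite M.Group
  Finset.univ.filter (Stab h e)

theorem mem_stabSet (h : Weyl.RootGood C M R) {e : Fin D.rank → Bool} {w : M.Group} :
    w ∈ stabSet h e ↔ Stab h e w := by simp [stabSet]

/-- The positive root of an index. -/
noncomputable def posR (hD : Good D) (j : Fin (half D)) : Root D := rootOf hD false (half D + j)

theorem posR_val (hD : Good D) (j : Fin (half D)) : (posR hD j : ℕ) = half D + j :=
  key_rootOf (b := false) hD (show half D + (j : ℕ) < D.nroots by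
    have := hD.two_half; have := j.2; omega)

theorem natCard_posR (hD : Good D) (P : Root D → Prop) [DecidablePred P] :
    Nat.card {j : Fin (half D) // P (posR hD j)} =
      (Finset.univ.filter fun r : Root D => half D ≤ (r : ℕ) ∧ P r).card := by
  rw [Nat.card_eq_fintype_card, Fintype.card_subtype]
  refine Finset.card_bij (fun j _ => posR hD j) (fun j hj => ?_) (fun a _ b _ e => ?_)
    fun r hr => ?_
  · simp only [Finset.mem_filter, Finset.mem_univ, true_and] at hj ⊢
    exact ⟨by rw [posR_val hD]; omega, hj⟩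
  · have h1 := posR_val hD a
    have h2 := posR_val hD b
    rw [e] at h1
    exact Fin.ext (by omega)
  · simp only [Finset.mem_filter, Finset.mem_univ, true_and] at hr
    have := hD.two_half
    have := r.2
    have e : posR hD ⟨r - half D, by omega⟩ = r := Fin.ext (by rw [posR_val hD]; simp; omega)
    exact ⟨⟨r - half D, by omega⟩, Finset.mem_filter.2 ⟨Finset.mem_univ _, by rw [e]; exact hr.2⟩, e⟩

variable {F : Type*} [Field F]

/-- The parameters supported on the positive roots with a property. -/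
abbrev Supp (hD : Good D) (F : Type*) [Field F] (P : Root D → Prop) : Type _ :=
  {s : Fin (half D) → F // ∀ j, ¬ P (posR hD j) → s j = 0}

theorem natCard_supp [Finite F] (hD : Good D) (P : Root D → Prop) [DecidablePred P] :
    Nat.card (Supp hD F P) =
      Nat.card F ^ (Finset.univ.filter fun r : Root D => half D ≤ (r : ℕ) ∧ P r).card := by
  rw [← natCard_posR hD P, ← Nat.card_fun]
  refine Nat.card_congr
    { toFun := fun s j => s.1 j.1
      invFun := fun f => ⟨fun j => if hj : P (posR hD j) then f ⟨j, hj⟩ else 0,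
        fun j hj => dif_neg hj⟩
      left_inv := fun s => Subtype.ext (funext fun j => ?_)
      right_inv := fun f => funext fun j => dif_pos j.2 }
  by_cases hj : P (posR hD j)
  · exact dif_pos hj
  · exact (dif_neg hj).trans (s.2 j hj).symm

theorem commute_sideR_iff (hW : GoodWeyl D) (h2 : (2 : F) ≠ 0) (e : Fin D.rank → Bool)
    (s : Fin (half D) → F) :
    Commute (tE D F e) (sideR hW.good false s) ↔
      ∀ j, ¬ Fixes D e (posR hW.good j) → s j = 0 := by
  have key := torC_conj_sideR hW.good false (sgnC D F e) s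
  constructor
  · intro hc j hj
    rw [← tE, hc.eq, mul_inv_cancel_right] at key
    have e1 : s j = (torVal (sgnC D F e) (Sum.inr (posR hW.good j)) : F) * s j :=
      congrFun (sideR_injective hW.toGoodUni false key) j
    rw [torVal_sgnC, if_neg hj, Units.val_neg, Units.val_one, neg_one_mul] at e1
    have : (2 : F) * s j = 0 := by linear_combination e1
    exact (mul_eq_zero.1 this).resolve_left h2
  · intro hs
    refine mul_inv_eq_iff_eq_mul.1 (key.trans (congrArg _ (funext fun j => ?_)))
    show (torVal (sgnC D F e) (Sum.inr (posR hW.good j)) : F) * s j = s j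
    by_cases hj : Fixes D e (posR hW.good j)
    · rw [torVal_sgnC, if_pos hj, Units.val_one, one_mul]
    · rw [hs j hj, mul_zero]

theorem sideR_mem_pos (hW : GoodWeyl D) (s : Fin (half D) → F) :
    sideR hW.good false s ∈ D.posUnipotent F := by
  rw [posUnipotent_eq hW.good]
  exact sideR_mem _ _ _

/-- `U_w⁻` is the set of products supported on the positive roots made negative. -/
theorem mem_uW_iff [Finite F] (hW : GoodWeyl D) (h : Weyl.RootGood C M R) (w : M.Group)
    {g : GL D.Idx F} :
    g ∈ uW hW h F w ↔ ∃ s : Supp hW.good F (fun r => (h.rootPerm w r : ℕ) < half D),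
      sideR hW.good false s.1 = g := by
  classical
  let φ : Supp hW.good F (fun r => (h.rootPerm w r : ℕ) < half D) → uW hW h F w := fun s =>
    ⟨sideR hW.good false s.1, Subgroup.list_prod_mem _ fun x hx => by
      obtain ⟨j, rfl⟩ := List.mem_ofFn.1 hx
      by_cases hj : (h.rootPerm w (posR hW.good j) : ℕ) < half D
      · exact X_mem_rootGen _ (S := invRoots h w)
          (show posR hW.good j ∈ invRoots h w from ⟨by rw [posR_val]; omega, hj⟩) _
      · rw [s.2 j hj, X_zero]; exact one_mem _⟩
  have hinj : Function.Injective φ := fun a b e =>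
    Subtype.ext (sideR_injective hW.toGoodUni false (congrArg Subtype.val e))
  haveI : Finite (uW hW h F w) := Subtype.finite
  have hbij : Function.Bijective φ := by
    refine hinj.bijective_of_nat_card_le (le_of_eq ?_)
    rw [natCard_supp, natCard_uW hW h, h.length_eq_card_invSet]
    congr 2
    ext r
    simp only [Weyl.RootGood.mem_invSet, posIdx_iff hW.good h, Finset.mem_filter,
      Finset.mem_univ, true_and, not_le]
  constructor
  · intro hg
    obtain ⟨s, hs⟩ := hbij.2 ⟨g, hg⟩
    exact ⟨s, congrArg Subtype.val hs⟩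
  · rintro ⟨s, rfl⟩
    exact (φ s).2

/-- The torus is as big as possible. -/
theorem natCard_diag [Finite F] (hW : GoodWeyl D) {Q : List (List ℤ)}
    (hQ : chkInverse D Q 0 = true) :
    Nat.card (D.diagonalSubgroup F) = (Nat.card F - 1) ^ D.rank := by
  rw [diagonalSubgroup_eq_range hW]
  rw [← Nat.card_congr
    (MonoidHom.ofInjective (f := torHom D F) (torC_injective_of_chk hW hQ)).toEquiv,
    Nat.card_fun, Nat.card_units, Nat.card_fin]

/-- **The order of the centraliser of a torus element of order two.** -/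
theorem natCard_centralizer [Finite F] (hW : GoodWeyl D) (h : Weyl.RootGood C M R)
    {Q : List (List ℤ)} (hQ : chkInverse D Q 0 = true) (h2 : (2 : F) ≠ 0)
    (e : Fin D.rank → Bool) :
    Nat.card (Subgroup.centralizer
      ({⟨tE D F e, tE_mem_group hW e⟩} : Set ↥(D.group F))) =
      Nat.card F ^ (posFixed D e).card * (Nat.card F - 1) ^ D.rank *
        ∑ w ∈ stabSet h e, Nat.card F ^ (invFixed h e w).card := by
  classical
  set t := tE D F e with ht
  have htd : t ∈ D.diagonalSubgroup F := tE_mem_diag hW e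
  have hcomm_n : ∀ w, Commute t (nW hW h F w) ↔ Stab h e w := fun w =>
    commute_monomial_iff hW h h2 e (nW_mem hW h w) (monBy_nW hW h w)
  let P₁ : Root D → Prop := Fixes D e
  let P₂ : M.Group → Root D → Prop := fun w r =>
    (h.rootPerm w r : ℕ) < half D ∧ Fixes D e r
  let S : Type _ := Σ w : ↥(stabSet h e),
    Supp hW.good F P₁ × ↥(D.diagonalSubgroup F) × Supp hW.good F (P₂ w)
  let val : S → GL D.Idx F := fun x =>
    sideR hW.good false x.2.1.1 * (x.2.2.1 : GL D.Idx F) * nW hW h F (x.1 : M.Group) *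
      sideR hW.good false x.2.2.2.1
  have hu : ∀ x : S, sideR hW.good false x.2.2.2.1 ∈ uW hW h F (x.1 : M.Group) := fun x =>
    (mem_uW_iff hW h _).2 ⟨⟨x.2.2.2.1, fun j hj => x.2.2.2.2 j fun e => hj e.1⟩, rfl⟩
  have hmem : ∀ x : S, val x ∈ D.group F ∧ Commute t (val x) := fun x =>
    ⟨mul_mem (mul_mem (mul_mem (sideR_mem_group _ _ _) (diag_le_group hW x.2.2.1.2))
        (monomial_le_group hW (nW_mem hW h _))) (sideR_mem_group _ _ _),
      ((((commute_sideR_iff hW h2 e _).2 x.2.1.2).mul_right
        (diag_comm hW htd x.2.2.1.2)).mul_right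
          ((hcomm_n _).2 ((mem_stabSet h).1 x.1.2))).mul_right
        ((commute_sideR_iff hW h2 e _).2 fun j hj => x.2.2.2.2 j fun e => hj e.2)⟩
  let φ : S → Subgroup.centralizer ({⟨t, tE_mem_group hW e⟩} : Set ↥(D.group F)) := fun x =>
    ⟨⟨val x, (hmem x).1⟩, Subgroup.mem_centralizer_singleton_iff.2
      (Subtype.ext (hmem x).2.symm.eq)⟩
  have hb : ∀ x : S, sideR hW.good false x.2.1.1 * (x.2.2.1 : GL D.Idx F) ∈ D.borelSubgroup F :=
    fun x => mul_mem (pos_le_borel D (sideR_mem_pos hW _)) (diag_le_borel D x.2.2.1.2)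
  have hφ : Function.Bijective φ := by
    constructor
    · rintro x y exy
      have exy' : val x = val y := Subtype.ext_iff.1 (Subtype.ext_iff.1 exy)
      have hw : (x.1 : M.Group) = y.1 :=
        congrArg Prod.fst ((existsUnique_form hW h (hmem x).1).unique
          (y₁ := ((x.1 : M.Group), _, _)) (y₂ := ((y.1 : M.Group), _, _))
          ⟨hb x, hu x, rfl⟩ ⟨hb y, hu y, exy'.symm⟩)
      obtain ⟨⟨w, hws⟩, s, k, v⟩ := x
      obtain ⟨⟨w', hws'⟩, s', k', v'⟩ := y
      simp only at hw
      subst hw
      obtain ⟨e1, e2⟩ := form_unique hW h (hb ⟨⟨w, hws⟩, s, k, v⟩) (hb ⟨⟨w, hws⟩, s', k', v'⟩)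
        (hu ⟨⟨w, hws⟩, s, k, v⟩) (hu ⟨⟨w, hws⟩, s', k', v'⟩) exy'
      dsimp only at e1 e2
      have e4 : (sideR hW.good false s'.1)⁻¹ * sideR hW.good false s.1 ∈
          D.posUnipotent F ⊓ D.diagonalSubgroup F := by
        refine Subgroup.mem_inf.2 ⟨mul_mem (inv_mem (sideR_mem_pos hW _)) (sideR_mem_pos hW _), ?_⟩
        rw [show (sideR hW.good false s'.1)⁻¹ * sideR hW.good false s.1 =
          (k' : GL D.Idx F) * (k : GL D.Idx F)⁻¹ by
            rw [eq_mul_inv_iff_mul_eq, mul_assoc, e1, inv_mul_cancel_left]]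
        exact mul_mem k'.2 (inv_mem k.2)
      rw [pos_inf_diag hW, Subgroup.mem_bot, inv_mul_eq_one] at e4
      rw [← e4, mul_left_cancel_iff] at e1
      obtain rfl : s = s' := Subtype.ext (sideR_injective hW.toGoodUni false e4.symm)
      obtain rfl : k = k' := Subtype.ext e1
      obtain rfl : v = v' := Subtype.ext (sideR_injective hW.toGoodUni false e2)
      rfl
    · rintro ⟨⟨g, hg⟩, hgc⟩
      have hgt : Commute t g :=
        (congrArg Subtype.val (Subgroup.mem_centralizer_singleton_iff.1 hgc)).symm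
      obtain ⟨⟨w, b, c⟩, ⟨hb', hc, eg⟩, huniq⟩ := existsUnique_form hW h hg
      dsimp only at hb' hc eg huniq
      set n := nW hW h F w
      have hk : t * n * t⁻¹ * n⁻¹ ∈ D.diagonalSubgroup F := by
        rw [show t * n * t⁻¹ * n⁻¹ = t * (n * t⁻¹ * n⁻¹) by group]
        exact mul_mem htd ((Subgroup.mem_normalizer_iff.1
          (monomial_le_normalizer hW (nW_mem hW h w)) _).1 (inv_mem htd))
      have h3 := huniq (w, t * b * t⁻¹ * (t * n * t⁻¹ * n⁻¹), t * c * t⁻¹)
        ⟨mul_mem (mul_mem (mul_mem (diag_le_borel D htd) hb') (inv_mem (diag_le_borel D htd)))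
          (diag_le_borel D hk), diag_conj_rootGen hW htd hc, by
          calc _ = t * (b * n * c) * t⁻¹ := by rw [show nW hW h F w = n from rfl]; group
            _ = g := by rw [eg, hgt.eq, mul_inv_cancel_right]⟩
      simp only [Prod.mk.injEq, true_and] at h3
      obtain ⟨hbt, hct⟩ := h3
      obtain ⟨u, huU, k, hkd, rfl⟩ := (mem_borel_iff hW).1 hb'
      have hut : u⁻¹ * (t * u * t⁻¹) = k * (t * n * t⁻¹ * n⁻¹)⁻¹ * k⁻¹ := by
        have htk : t * k * t⁻¹ = k := by rw [diag_comm hW htd hkd, mul_inv_cancel_right]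
        have : t * u * t⁻¹ * (t * k * t⁻¹) * (t * n * t⁻¹ * n⁻¹) = u * k := by
          rw [show t * u * t⁻¹ * (t * k * t⁻¹) = t * (u * k) * t⁻¹ by group, hbt]
        rw [htk] at this
        rw [show t * u * t⁻¹ = u * k * (t * n * t⁻¹ * n⁻¹)⁻¹ * k⁻¹ by
          rw [← this]; generalize t * n * t⁻¹ * n⁻¹ = z; group]
        group
      have h4 : u⁻¹ * (t * u * t⁻¹) ∈ D.posUnipotent F ⊓ D.diagonalSubgroup F :=
        Subgroup.mem_inf.2 ⟨mul_mem (inv_mem huU)
          ((Subgroup.mem_normalizer_iff.1 (diag_le_normalizer_pos hW htd) u).1 huU),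
          hut ▸ mul_mem (mul_mem hkd (inv_mem hk)) (inv_mem hkd)⟩
      rw [pos_inf_diag hW, Subgroup.mem_bot] at h4
      have hu' : Commute t u := mul_inv_eq_iff_eq_mul.1 (inv_mul_eq_one.1 h4).symm
      have hn' : Commute t n := by
        rw [h4, eq_comm, conj_eq_one_iff, inv_eq_one, mul_inv_eq_one] at hut
        exact mul_inv_eq_iff_eq_mul.1 hut
      rw [posUnipotent_eq hW.good] at huU
      obtain ⟨s, rfl⟩ := exists_sideR hW.toGoodComm false huU
      obtain ⟨⟨v, hv⟩, rfl⟩ := (mem_uW_iff hW h w).1 hc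
      have hvt := (commute_sideR_iff hW h2 e v).1 (mul_inv_eq_iff_eq_mul.1 hct)
      refine ⟨⟨⟨w, (mem_stabSet h).2 ((hcomm_n w).1 hn')⟩,
        ⟨s, (commute_sideR_iff hW h2 e s).1 hu'⟩, ⟨k, hkd⟩, ⟨v, fun j hj => ?_⟩⟩,
        Subtype.ext (Subtype.ext eg)⟩
      by_cases h5 : (h.rootPerm w (posR hW.good j) : ℕ) < half D
      · exact hvt j fun h6 => hj ⟨h5, h6⟩
      · exact hv j h5
  rw [← Nat.card_eq_of_bijective φ hφ, Nat.card_sigma,
    Finset.mul_sum, ← Finset.sum_coe_sort (stabSet h e)]
  refine Finset.sum_congr rfl fun w _ => ?_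
  rw [Nat.card_prod, Nat.card_prod, natCard_supp, natCard_supp, natCard_diag hW hQ]
  simp only [P₁, P₂, posFixed, invFixed, and_assoc]
  ring

end CfsgLib.InvOdd
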