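import Cfsg.Agent.InvOdd.Descent
import Cfsg.Agent.InvOdd.Count
import Mathlib.Algebra.Group.Conj

/-!
# Classes of involutions in odd characteristic

The Weyl group acts on the codes by flipping a coordinate at each fundamental reflection.
-/

set_option autoImplicit false
set_option linter.style.haveILetI false

namespace CfsgLib.InvOdd

open Cfsg.Lie CfsgLib CfsgLib.Chevalley CfsgLib.ChevTorus CfsgLib.LangTorus CfsgLib.ChevSubfield
open scoped MatrixGroups

variable {D : ChevalleyDatum} {C : Weyl.Cert D.rank} {M : CoxeterMatrix (Fin D.rank)}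
  {R : Weyl.RootTable}

/-- The code after the `i`-th fundamental reflection. -/
def flip (hW : GoodWeyl D) (i : Fin D.rank) (e : Fin D.rank → Bool) : Fin D.rank → Bool :=
  if Fixes D e (pRoot hW i) then e else Function.update e i (!e i)

/-- The code after a word of fundamental reflections. -/
def flips (hW : GoodWeyl D) (ω : List (Fin D.rank)) (e : Fin D.rank → Bool) : Fin D.rank → Bool :=
  ω.foldr (flip hW) e

theorem par_wPerm (hW : GoodWeyl D) (i : Fin D.rank) (e : Fin D.rank → Bool) (r : Root D) :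
    par D e (wPerm hW i r) = par D e r - D.cartan i r * par D e (pRoot hW i) := by
  simp only [par, Finset.mul_sum, ← Finset.sum_sub_distrib, hW.cartan_wPerm]
  exact Finset.sum_congr rfl fun k _ => by by_cases hk : e k <;> simp [hk]

theorem fixes_flip (hW : GoodWeyl D) (i : Fin D.rank) (e : Fin D.rank → Bool) (r : Root D) :
    Fixes D (flip hW i e) (wPerm hW i r) ↔ Fixes D e r := by
  by_cases hp : Fixes D e (pRoot hW i)
  · rw [flip, if_pos hp, Fixes, par_wPerm]
    exact dvd_sub_left (Dvd.dvd.mul_left hp _)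
  · have h1 : ∀ s, par D (Function.update e i (!e i)) s =
        par D e s + (if e i then -1 else 1) * D.cartan i s := by
      intro s
      rw [par, par, ← Finset.sum_erase_add _ _ (Finset.mem_univ i),
        ← Finset.sum_erase_add (f := fun k : Fin D.rank => if e k then D.cartan k s else 0) _
          (Finset.mem_univ i), add_assoc]
      refine congrArg₂ _ (Finset.sum_congr rfl fun k hk => ?_) ?_
      · rw [Function.update_of_ne (Finset.mem_erase.1 hk).1]
      · cases e i <;> simp
    rw [flip, if_neg hp, Fixes, h1, par_wPerm, hW.cartan_wPerm_self, Fixes]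
    have hp' : par D e (pRoot hW i) % 2 = 1 := by
      have : ¬ (2 : ℤ) ∣ par D e (pRoot hW i) := hp
      omega
    obtain ⟨a, ha⟩ : ∃ a, par D e (pRoot hW i) = 2 * a + 1 :=
      ⟨par D e (pRoot hW i) / 2, by omega⟩
    rw [ha, show D.cartan i r * (2 * a + 1) = 2 * (D.cartan i r * a) + D.cartan i r by ring]
    split_ifs <;> omega

theorem fixes_flips (hW : GoodWeyl D) (h : Weyl.RootGood C M R) :
    ∀ (ω : List (Fin D.rank)) (e : Fin D.rank → Bool) (r : Root D),
      Fixes D (flips hW ω e) (h.rootPerm (M.toCoxeterSystem.wordProd ω) r) ↔ Fixes D e r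
  | [], e, r => by simp [flips]
  | i :: ω, e, r => by
    rw [CoxeterSystem.wordProd_cons, CoxeterMatrix.toCoxeterSystem_simple, map_mul,
      Equiv.Perm.mul_apply, ← wPerm_eq_rootPerm hW h]
    exact (fixes_flip hW i _ _).trans (fixes_flips hW h ω e r)

variable {F : Type*} [Field F]

/-- A representative of a word carries the torus element of a code to that of the moved code. -/
theorem conj_tE (hW : GoodWeyl D) (h : Weyl.RootGood C M R) (ω : List (Fin D.rank))
    (e : Fin D.rank → Bool) :
    nWord hW F ω * tE D F e * (nWord hW F ω)⁻¹ = tE D F (flips hW ω e) := by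
  set n := nWord hW F ω
  set e' := flips hW ω e
  have hn : n ∈ D.monomialSubgroup F := nWord_mem hW F ω
  have hmon := monBy_weylHom hW h (⟨n, hn⟩ : ↥(D.monomialSubgroup F))
  rw [weylHom_nWord] at hmon
  have hd : n * tE D F e * n⁻¹ ∈ D.diagonalSubgroup F :=
    (Subgroup.mem_normalizer_iff.1 (monomial_le_normalizer hW hn) _).1 (tE_mem_diag hW e)
  rw [← mul_inv_eq_one]
  refine eq_one_of_diag_comm hW (mul_mem hd (inv_mem (tE_mem_diag hW _))) fun r =>
    mul_inv_eq_iff_eq_mul.1 ?_
  obtain ⟨s, rfl⟩ := (h.rootPerm (M.toCoxeterSystem.wordProd ω)).surjective r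
  obtain ⟨c, hc⟩ := hmon.conj_X s
  have e1 : n⁻¹ * X hW.good (h.rootPerm (M.toCoxeterSystem.wordProd ω) s) 1 * n =
      X hW.good s ((c⁻¹ : Fˣ) : F) := by
    rw [← Units.mul_inv c, ← hc]; group
  have hv : torVal (sgnC D F e') (Sum.inr (h.rootPerm (M.toCoxeterSystem.wordProd ω) s)) =
      torVal (sgnC D F e) (Sum.inr s) := by
    rw [torVal_sgnC, torVal_sgnC]
    simp only [e', fixes_flips hW h]
  have e3 : (tE D F e')⁻¹ = tE D F e' := inv_eq_of_mul_eq_one_right (tE_mul_self e')
  set r := h.rootPerm (M.toCoxeterSystem.wordProd ω) s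
  set a : F := (torVal (sgnC D F e) (Sum.inr s) : F) with ha
  have haa : a * a = 1 := by rw [ha, torVal_sgnC]; by_cases hf : Fixes D e s <;> simp [hf]
  calc n * tE D F e * n⁻¹ * (tE D F e')⁻¹ * X hW.good r 1 *
        (n * tE D F e * n⁻¹ * (tE D F e')⁻¹)⁻¹
      = n * (tE D F e * (n⁻¹ * ((tE D F e')⁻¹ * X hW.good r 1 * tE D F e') * n) *
          (tE D F e)⁻¹) * n⁻¹ := by group
    _ = n * (tE D F e * (n⁻¹ * X hW.good r a * n) * (tE D F e)⁻¹) * n⁻¹ := by
        rw [e3]
        congr 5
        rw [tE]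
        nth_rw 2 [← inv_inv (torC D (sgnC D F e'))]
        rw [← tE, e3, tE, torC_conj_X hW.good, hv, mul_one]
    _ = X hW.good r 1 := by
        obtain ⟨d, hd'⟩ := hmon.inv.conj_X r
        rw [inv_inv] at hd'
        have hb : n⁻¹ * X hW.good r a * n = X hW.good s (((c⁻¹ : Fˣ) : F) * a) := by
          have h0 : X hW.good r a = n * X hW.good s (((c⁻¹ : Fˣ) : F) * a) * n⁻¹ := by
            rw [hc, ← mul_assoc, Units.mul_inv, one_mul]
          rw [h0]; group
        rw [hb, tE, torC_conj_X hW.good, ← ha, hc, mul_left_comm a, ← mul_assoc (c : F),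
          Units.mul_inv, one_mul, haa]

theorem isConj_tE (hW : GoodWeyl D) (h : Weyl.RootGood C M R) (ω : List (Fin D.rank))
    (e : Fin D.rank → Bool) :
    IsConj (⟨tE D F e, tE_mem_group hW e⟩ : ↥(D.group F))
      ⟨tE D F (flips hW ω e), tE_mem_group hW _⟩ :=
  isConj_iff.2 ⟨⟨_, monomial_le_group hW (nWord_mem hW F ω)⟩, Subtype.ext (conj_tE hW h ω e)⟩

theorem tE_false : tE D F (fun _ => false) = 1 :=
  map_one (torHom D F)

theorem orderOf_tE (hW : GoodWeyl D) {Q : List (List ℤ)} (hQ : chkInverse D Q 0 = true)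
    (h2 : (2 : F) ≠ 0) {e : Fin D.rank → Bool} (he : e ≠ fun _ => false) :
    orderOf (⟨tE D F e, tE_mem_group hW e⟩ : ↥(D.group F)) = 2 := by
  refine orderOf_eq_prime (Subtype.ext (by simpa [sq] using tE_mul_self e)) fun h1 => he ?_
  funext k
  have e1 := congrFun (torC_injective_of_chk hW hQ
    ((congrArg Subtype.val h1).trans (tE_false (F := F)).symm)) k
  by_contra hk
  simp only [sgnC, Bool.not_eq_false] at hk e1
  rw [if_pos hk] at e1
  exact neg_one_ne_one_units h2 e1

/-- Every element of order two is conjugate to a torus element with a code other than zero. -/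
theorem exists_isConj_tE (hW : GoodWeyl D) (h : Weyl.RootGood C M R) {Q : List (List ℤ)}
    (hQ : chkInverse D Q 0 = true) (hneg : NegRoot h) [Finite F] (h2 : (2 : F) ≠ 0)
    {u : ↥(D.group F)} (hu : orderOf u = 2) :
    ∃ e : Fin D.rank → Bool, (e ≠ fun _ => false) ∧
      IsConj u ⟨tE D F e, tE_mem_group hW e⟩ := by
  have huu : (u : GL D.Idx F) * u = 1 := by
    have := congrArg Subtype.val (pow_orderOf_eq_one u)
    rwa [hu, SubmonoidClass.coe_pow, sq] at this
  obtain ⟨y, hy, e, he⟩ := exists_conj_tE hW h hQ hneg h2 u.2 huu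
  refine ⟨e, fun e0 => ?_, isConj_iff.2 ⟨⟨y⁻¹, inv_mem hy⟩, Subtype.ext (by simpa using he)⟩⟩
  rw [e0, tE_false] at he
  have hu1 : (u : GL D.Idx F) = 1 := by
    calc (u : GL D.Idx F) = y * (y⁻¹ * u * y) * y⁻¹ := by group
      _ = 1 := by rw [he]; group
  rw [show u = 1 from Subtype.ext hu1, orderOf_one] at hu
  omega

end CfsgLib.InvOdd
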