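import Cfsg.Agent.InvOdd.Reduce
import Mathlib.RingTheory.AdjoinRoot
import Mathlib.FieldTheory.Finite.Basic
import Mathlib.FieldTheory.KummerPolynomial
import Mathlib.RingTheory.IntegralDomain

/-!
# Involutions in odd characteristic are conjugate to torus elements

The group needs an injectively parametrised torus, and every involution of the Weyl group keeping
the fixed roots of a torus element of order two has to negate one of them.
-/

set_option autoImplicit false
set_option linter.style.haveILetI false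

universe u

namespace CfsgLib.InvOdd

open Cfsg.Lie CfsgLib CfsgLib.Chevalley CfsgLib.ChevTorus CfsgLib.LangTorus CfsgLib.LangChev
open CfsgLib.ChevSubfield
open scoped MatrixGroups

variable {D : ChevalleyDatum} {C : Weyl.Cert D.rank} {M : CoxeterMatrix (Fin D.rank)}
  {R : Weyl.RootTable}

/-- An involution of the Weyl group keeping the fixed roots of a code negates one of them. -/
def NegRoot (h : Weyl.RootGood C M R) : Prop :=
  ∀ w : M.Group, w * w = 1 → w ≠ 1 → ∀ e, Stab h e w →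
    ∃ r, h.rootPerm w r = r.rev ∧ Fixes D e r

theorem fixes_false (r : Root D) : Fixes D (fun _ => false) r := by simp [Fixes, par]

theorem gmap_tE {F : Type*} [Field F] (σ : F →+* F) (e : Fin D.rank → Bool) :
    gmap D σ (tE D F e) = tE D F e := by
  rw [tE]
  refine (map_torC σ _).trans (congrArg (torC D) (funext fun k => Units.ext ?_))
  by_cases hk : e k <;> simp [sgnC, hk]

theorem map_tE {F K : Type*} [Field F] [Field K] (φ : F →+* K) (e : Fin D.rank → Bool) :
    Matrix.GeneralLinearGroup.map φ (tE D F e) = tE D K e := by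
  rw [tE]
  refine (map_torC φ _).trans (congrArg (torC D) (funext fun k => Units.ext ?_))
  by_cases hk : e k <;> simp [sgnC, hk]

theorem exists_norm_eq {K : Type*} [Field K] [Finite K] {q : ℕ} (hq : 1 < q)
    (hK : Nat.card K = q * q) {c : Kˣ} (hc : (c : K) ^ q = c) :
    ∃ lam : Kˣ, (lam : K) * (lam : K) ^ q = c := by
  haveI := Fintype.ofFinite K
  obtain ⟨g, hg⟩ := IsCyclic.exists_zpow_surjective (G := Kˣ)
  obtain ⟨k, rfl⟩ := hg c
  have hord : orderOf g = q * q - 1 := by
    rw [orderOf_eq_card_of_forall_mem_zpowers fun x => Subgroup.mem_zpowers_iff.2 (hg x),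
      Nat.card_units, hK]
  have h1 : g ^ (k * ((q : ℤ) - 1)) = 1 := by
    have h2 : (g ^ k) ^ q = g ^ k := Units.ext (by simpa using hc)
    rw [mul_sub, mul_one, zpow_sub, zpow_mul, zpow_natCast, h2, mul_inv_cancel]
  rw [← orderOf_dvd_iff_zpow_eq_one, hord] at h1
  have h3 : ((q * q - 1 : ℕ) : ℤ) = ((q : ℤ) + 1) * ((q : ℤ) - 1) := by
    rw [Nat.cast_sub (show 1 ≤ q * q by nlinarith)]
    push_cast; ring
  rw [h3] at h1
  obtain ⟨j, rfl⟩ := (mul_dvd_mul_iff_right (show ((q : ℤ) - 1) ≠ 0 by omega)).1 h1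
  refine ⟨g ^ j, ?_⟩
  rw [← Units.val_pow_eq_pow_val, ← Units.val_mul]
  congr 1
  rw [← zpow_natCast, ← zpow_mul, ← zpow_add]
  congr 1
  ring

theorem exists_hilbert {K : Type*} [Field K] [Finite K] {q : ℕ} (hq : 1 < q)
    (hK : Nat.card K = q * q) {c : Kˣ} (hc : (c : K) * (c : K) ^ q = 1) :
    ∃ z : Kˣ, z⁻¹ * z ^ q = c := by
  haveI := Fintype.ofFinite K
  obtain ⟨g, hg⟩ := IsCyclic.exists_zpow_surjective (G := Kˣ)
  obtain ⟨k, rfl⟩ := hg c
  have hord : orderOf g = q * q - 1 := by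
    rw [orderOf_eq_card_of_forall_mem_zpowers fun x => Subgroup.mem_zpowers_iff.2 (hg x),
      Nat.card_units, hK]
  have h1 : g ^ (k * ((q : ℤ) + 1)) = 1 := by
    have h2 : g ^ k * (g ^ k) ^ q = 1 := Units.ext (by simpa using hc)
    rw [mul_add, mul_one, zpow_add, zpow_mul, zpow_natCast, mul_comm, h2]
  rw [← orderOf_dvd_iff_zpow_eq_one, hord] at h1
  have h3 : ((q * q - 1 : ℕ) : ℤ) = ((q : ℤ) - 1) * ((q : ℤ) + 1) := by
    rw [Nat.cast_sub (show 1 ≤ q * q by nlinarith)]
    push_cast; ring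
  rw [h3] at h1
  obtain ⟨j, rfl⟩ := (mul_dvd_mul_iff_right (show ((q : ℤ) + 1) ≠ 0 by omega)).1 h1
  refine ⟨g ^ j, ?_⟩
  rw [← zpow_natCast, ← zpow_mul, ← zpow_neg, ← zpow_add]
  congr 1
  ring

variable (hW : GoodWeyl D) (h : Weyl.RootGood C M R)
  {Q : List (List ℤ)} (hQ : chkInverse D Q 0 = true)

include hW in
theorem exists_diag (hneg : NegRoot h) {F : Type*} [Field F] [Finite F] (h2 : (2 : F) ≠ 0)
    {σ : F →+* F} (hσ : ∀ x, σ (σ x) = x)
    (hN : ∀ c : Fˣ, σ (c : F) = c → ∃ lam : Fˣ, (lam : F) * σ (lam : F) = c)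
    (e : Fin D.rank → Bool) {g : GL D.Idx F} (hg : Tw σ (tE D F e) g) :
    ∃ y ∈ D.group F, Commute (tE D F e) y ∧ y⁻¹ * g * gmap D σ y ∈ D.diagonalSubgroup F := by
  set t := tE D F e
  have ht : t ∈ D.diagonalSubgroup F := tE_mem_diag hW e
  have htσ : gmap D σ t = t := gmap_tE σ e
  obtain ⟨y₀, hy₀, hy₀t, hm₀⟩ := exists_monomial hW h h2 hσ ht htσ hg
  suffices H : ∀ n : ℕ, ∀ m, ∀ hm : m ∈ D.monomialSubgroup F, Tw σ t m →
      (negated h (weylHom hW h ⟨m, hm⟩)).card = n →
      ∃ y ∈ D.group F, Commute t y ∧ y⁻¹ * m * gmap D σ y ∈ D.diagonalSubgroup F by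
    obtain ⟨y, hy, hyt, hd⟩ := H _ _ hm₀ (hg.conj hσ hW.good htσ hy₀ hy₀t) rfl
    refine ⟨y₀ * y, mul_mem hy₀ hy, hy₀t.mul_right hyt, ?_⟩
    convert hd using 1
    rw [map_mul]
    group
  intro n
  induction n using Nat.strong_induction_on with
  | _ n ih =>
    intro m hm hT hn
    set w := weylHom hW h ⟨m, hm⟩ with hw
    by_cases hw1 : w = 1
    · refine ⟨1, one_mem _, Commute.one_right t, ?_⟩
      have h1 : (⟨m, hm⟩ : ↥(D.monomialSubgroup F)) ∈ (weylHom hW h).ker := hw1
      rw [ker_weylHom] at h1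
      simpa using (show m ∈ D.diagonalSubgroup F from h1)
    have hS : Stab h e w :=
      (commute_monomial_iff hW h h2 e hm (monBy_weylHom hW h ⟨m, hm⟩)).1 hT.2.2
    obtain ⟨r, hr, hre⟩ := hneg w (tw_weyl_mul_self hW h σ hm hT.2.1) hw1 e hS
    obtain ⟨c, hσc, hc, hc'⟩ := exists_scalar hW (monBy_weylHom hW h ⟨m, hm⟩) hT.2.1 hr
    obtain ⟨lam, hlam⟩ := hN c hσc
    obtain ⟨y, hy, hyt, hm', hlt⟩ := reduce hW h h2 ht hm hT.2.1 hr
      ((tE_commute_X_iff hW h2 e r).2 hre) c hc hc' lam hlam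
    obtain ⟨y', hy', hyt', hd⟩ := ih _ (hn ▸ hlt) _ hm' (hT.conj hσ hW.good htσ hy hyt) rfl
    refine ⟨y * y', mul_mem hy hy', hyt.mul_right hyt', ?_⟩
    convert hd using 1
    rw [map_mul]
    group

theorem gmap_id {F : Type*} [Field F] (g : GL D.Idx F) : gmap D (RingHom.id F) g = g :=
  Units.ext (Matrix.ext fun _ _ => rfl)

include hW hQ in
/-- Twisted involutions centralising `t` are twisted boundaries. -/
theorem twisted_trivial (hneg : NegRoot h) {K : Type*} [Field K] [Finite K] (h2 : (2 : K) ≠ 0)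
    {q : ℕ} (hq : 1 < q) (hK : Nat.card K = q * q) {σ : K →+* K} (hσq : ∀ x, σ x = x ^ q)
    (e : Fin D.rank → Bool) {x : GL D.Idx K} (hx : Tw σ (tE D K e) x) :
    ∃ Y ∈ D.group K, Commute (tE D K e) Y ∧ Y⁻¹ * gmap D σ Y = x := by
  haveI := Fintype.ofFinite K
  have hσ : ∀ x, σ (σ x) = x := fun x => by
    rw [hσq, hσq, ← pow_mul, ← hK, Nat.card_eq_fintype_card, FiniteField.pow_card]
  have hN : ∀ c : Kˣ, σ (c : K) = c → ∃ lam : Kˣ, (lam : K) * σ (lam : K) = c := fun c hc => by
    rw [hσq] at hc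
    simpa only [hσq] using exists_norm_eq hq hK hc
  obtain ⟨y, hy, hyt, hd⟩ := exists_diag hW h hneg h2 hσ hN e hx
  have hT := hx.conj hσ hW.good (gmap_tE σ e) hy hyt
  rw [diagonalSubgroup_eq_range hW] at hd
  obtain ⟨c, hc⟩ := hd
  change torC D c = _ at hc
  have hinj := torC_injective_of_chk (F := K) hW hQ
  have h1 : ∀ k, (c k : K) * (c k : K) ^ q = 1 := by
    intro k
    have e1 := hT.2.1
    rw [← hc, map_torC, torC_mul] at e1
    have e2 := congrFun (hinj (e1.trans (map_one (torHom D K)).symm)) k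
    have e3 := congrArg Units.val e2
    simpa [hσq] using e3
  choose z hz using fun k => exists_hilbert hq hK (h1 k)
  have hσz : gmap D σ (torC D z) = torC D fun k => z k ^ q := by
    refine (map_torC σ z).trans (congrArg (torC D) (funext fun k => Units.ext ?_))
    simp [hσq]
  have hz1 : (torC D z)⁻¹ * gmap D σ (torC D z) = y⁻¹ * x * gmap D σ y := by
    rw [hσz, ← hc, show (torC D z)⁻¹ = torC D z⁻¹ from ((torHom D K).map_inv z).symm, torC_mul]
    exact congrArg (torC D) (funext fun k => hz k)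
  refine ⟨torC D z * y⁻¹, mul_mem (diag_le_group hW (torC_mem_diag hW z)) (inv_mem hy),
    Commute.mul_right ?_ hyt.inv_right, ?_⟩
  · exact diag_comm hW (tE_mem_diag hW e) (torC_mem_diag hW z)
  · calc (torC D z * y⁻¹)⁻¹ * gmap D σ (torC D z * y⁻¹)
        = y * ((torC D z)⁻¹ * gmap D σ (torC D z)) * (gmap D σ y)⁻¹ := by
          rw [map_mul, map_inv]; group
      _ = x := by rw [hz1]; group

include hW hQ in
/-- **Every involution is conjugate to a torus element.** -/
theorem exists_conj_tE (hneg : NegRoot h) {F : Type u} [Field F] [Finite F] (h2 : (2 : F) ≠ 0)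
    {g : GL D.Idx F} (hg : g ∈ D.group F) (hgg : g * g = 1) :
    ∃ y ∈ D.group F, ∃ e : Fin D.rank → Bool, y⁻¹ * g * y = tE D F e := by
  suffices H : ∀ (n : ℕ) (F : Type u) [Field F] [Finite F], (2 : F) ≠ 0 →
      ∀ (m : GL D.Idx F) (hm : m ∈ D.monomialSubgroup F), m * m = 1 →
      (negated h (weylHom hW h ⟨m, hm⟩)).card = n →
      ∃ y ∈ D.group F, ∃ e : Fin D.rank → Bool, y⁻¹ * m * y = tE D F e by
    obtain ⟨y₀, hy₀, -, hm₀⟩ := exists_monomial hW h h2 (σ := RingHom.id F) (fun _ => rfl)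
      (one_mem _) (map_one _) (t := 1) (g := g)
      ⟨hg, by rw [gmap_id, hgg], Commute.one_left g⟩
    rw [gmap_id] at hm₀
    obtain ⟨y, hy, e, he⟩ := H _ F h2 _ hm₀ (by
      rw [show y₀⁻¹ * g * y₀ * (y₀⁻¹ * g * y₀) = y₀⁻¹ * (g * g) * y₀ by group, hgg]; group) rfl
    exact ⟨y₀ * y, mul_mem hy₀ hy, e, by rw [← he]; group⟩
  intro n
  induction n using Nat.strong_induction_on with
  | _ n ih =>
    intro F _ _ h2 m hm hmm hn
    haveI := Fintype.ofFinite F
    set w := weylHom hW h ⟨m, hm⟩ with hw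
    by_cases hw1 : w = 1
    · have h1 : (⟨m, hm⟩ : ↥(D.monomialSubgroup F)) ∈ (weylHom hW h).ker := hw1
      rw [ker_weylHom] at h1
      obtain ⟨e, he⟩ := exists_code hW (torC_injective_of_chk hW hQ)
        (show m ∈ D.diagonalSubgroup F from h1) hmm
      exact ⟨1, one_mem _, e, by simpa using he.symm⟩
    have hσm : m * gmap D (RingHom.id F) m = 1 := by rw [gmap_id, hmm]
    obtain ⟨r, hr, -⟩ := hneg w (tw_weyl_mul_self hW h _ hm hσm) hw1 (fun _ => false)
      fun s => iff_of_true (fixes_false _) (fixes_false _)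
    obtain ⟨c, -, hc, hc'⟩ := exists_scalar hW (monBy_weylHom hW h ⟨m, hm⟩) hσm hr
    by_cases hsq : ∃ a : F, a * a = c
    · obtain ⟨a, ha⟩ := hsq
      have ha0 : a ≠ 0 := fun e => c.ne_zero (by rw [← ha, e, mul_zero])
      obtain ⟨y, hy, -, hm', hlt⟩ := reduce hW h h2 (one_mem _) hm hσm hr
        (fun z => Commute.one_left _) c hc hc' (Units.mk0 a ha0) (t := 1) ha
      simp only [gmap_id] at hm' hlt
      obtain ⟨y', hy', e, he⟩ := ih _ (hn ▸ hlt) F h2 _ hm' (by
        rw [show y⁻¹ * m * y * (y⁻¹ * m * y) = y⁻¹ * (m * m) * y by group, hmm]; group) rfl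
      exact ⟨y * y', mul_mem hy hy', e, by rw [← he]; group⟩
    -- a quadratic extension
    set f : Polynomial F := Polynomial.X ^ 2 - Polynomial.C (c : F) with hf
    have hirr : Irreducible f :=
      X_pow_sub_C_irreducible_of_prime Nat.prime_two fun b hb => hsq ⟨b, by rw [← hb, sq]⟩
    haveI : Fact (Irreducible f) := ⟨hirr⟩
    let K := AdjoinRoot f
    have hdeg : f.natDegree = 2 := by simp [hf]
    let pb := AdjoinRoot.powerBasis hirr.ne_zero
    haveI : Module.Finite F K := Module.Finite.of_basis pb.basis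
    haveI : Finite K := Module.finite_of_finite F
    haveI := Fintype.ofFinite K
    obtain ⟨p, hpF⟩ := CharP.exists F
    haveI := hpF
    obtain ⟨fq, hp, hqf⟩ := FiniteField.card F p
    haveI : Fact p.Prime := ⟨hp⟩
    haveI : CharP K p := charP_of_injective_algebraMap (algebraMap F K).injective p
    set q := Nat.card F with hqdef
    have hq1 : 1 < q := Finite.one_lt_card
    have hK : Nat.card K = q * q := by
      rw [Module.natCard_eq_pow_finrank (K := F) (V := K), pb.finrank,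
        AdjoinRoot.powerBasis_dim, hdeg, sq]
    set ι := Matrix.GeneralLinearGroup.map (n := D.Idx) (algebraMap F K) with hι
    have hιinj : Function.Injective ι := fun x y e =>
      Units.ext (Matrix.map_injective (f := algebraMap F K) (algebraMap F K).injective
        (congrArg Units.val e))
    have hιm : ι m ∈ D.monomialSubgroup K := by
      refine monomial_induction hW (P := fun g => ι g ∈ D.monomialSubgroup K) hm
        (fun a ha => ?_) (fun i => ?_) (fun a b ha hb => by rw [map_mul]; exact mul_mem ha hb)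
        (fun a ha => by rw [map_inv]; exact inv_mem ha)
      · rw [diagonalSubgroup_eq_range hW] at ha
        obtain ⟨d, rfl⟩ := ha
        show ι (torC D d) ∈ _
        rw [hι, map_torC]
        exact diag_le_monomial D (torC_mem_diag hW _)
      · rw [hι, nR_map]
        exact nR_mem_monomial hW i
    have hwK : weylHom hW h ⟨ι m, hιm⟩ = w := by
      refine weylHom_eq hW h fun s => ?_
      obtain ⟨a, -, -⟩ := monBy_weylHom hW h ⟨m, hm⟩ s
      obtain ⟨π, hπ⟩ := exists_monBy hW hιm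
      obtain ⟨b, hb, hb'⟩ := hπ s
      obtain ⟨d, hd⟩ := (monBy_weylHom hW h ⟨m, hm⟩).conj_X s
      have e1 := congrArg ι (hd 1)
      rw [map_mul, map_mul, map_inv, hι, X_map, X_map, map_one] at e1
      have e2 : π s = h.rootPerm w s := by
        by_contra hne
        exact X_ne hW.toGoodUni hne (show (b : K) * 1 ≠ 0 by simp) _ ((hb 1).symm.trans e1)
      exact ⟨b, fun t => e2 ▸ hb t, fun t => e2 ▸ hb' t⟩
    have hcK : ∃ a : Kˣ, (a : K) * a = algebraMap F K c := by
      have e1 : (AdjoinRoot.root f) ^ 2 = algebraMap F K c := by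
        have := AdjoinRoot.eval₂_root f
        simp only [hf, Polynomial.eval₂_sub, Polynomial.eval₂_pow, Polynomial.eval₂_X,
          Polynomial.eval₂_C, sub_eq_zero] at this
        exact this
      have hne : AdjoinRoot.root f ≠ 0 := fun e0 => by
        rw [e0, zero_pow two_ne_zero, eq_comm, map_eq_zero] at e1
        exact c.ne_zero e1
      exact ⟨Units.mk0 _ hne, by rw [Units.val_mk0, ← sq, e1]⟩
    obtain ⟨a, ha⟩ := hcK
    set cK : Kˣ := Units.map (algebraMap F K : F →* K) c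
    obtain ⟨b, hb, hb'⟩ := monBy_weylHom hW h (⟨ι m, hιm⟩ : ↥(D.monomialSubgroup K)) r
    simp only [hwK, hr, Fin.rev_rev] at hb hb'
    have hbc : b = cK := by
      refine Units.ext ?_
      have e1 := congrArg ι (hc 1)
      rw [map_mul, map_mul, map_inv, hι, X_map, X_map, map_one, hb, mul_one, mul_one] at e1
      exact X_injective hW.good _ e1
    subst hbc
    have h2K : (2 : K) ≠ 0 := by
      rw [← map_ofNat (algebraMap F K) 2]
      exact (map_ne_zero _).2 h2
    have hιmm : ι m * ι m = 1 := by rw [← map_mul, hmm, map_one]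
    have hσmK : ι m * gmap D (RingHom.id K) (ι m) = 1 := by rw [gmap_id, hιmm]
    obtain ⟨y₁, hy₁, -, hm₁, hlt⟩ := reduce hW h h2K (one_mem _) hιm hσmK
      (by rw [hwK]; exact hr) (fun z => Commute.one_left _) cK hb hb' a (t := 1) (by simpa [cK] using ha)
    rw [hwK] at hlt
    simp only [gmap_id] at hm₁ hlt
    obtain ⟨y₂, hy₂, e, he⟩ := ih _ (hn ▸ hlt) K h2K _ hm₁ (by
      rw [show y₁⁻¹ * ι m * y₁ * (y₁⁻¹ * ι m * y₁) = y₁⁻¹ * (ι m * ι m) * y₁ by group, hιmm]
      group) rfl
    set g := y₁ * y₂ with hgdef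
    have hgG : g ∈ D.group K := mul_mem hy₁ hy₂
    have hge : g⁻¹ * ι m * g = tE D K e := by rw [hgdef, ← he]; group
    clear_value g
    set σ := iterateFrobenius K p (fq : ℕ)
    have hσq : ∀ x : K, σ x = x ^ q := fun x => by
      rw [iterateFrobenius_def, hqdef, Nat.card_eq_fintype_card, hqf]
    have hσ : ∀ x, σ (σ x) = x := fun x => by
      rw [hσq, hσq, ← pow_mul, ← hK, Nat.card_eq_fintype_card, FiniteField.pow_card]
    have hσm' : gmap D σ (ι m) = ι m := by
      refine Units.ext (Matrix.ext fun i j => ?_)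
      show σ (algebraMap F K _) = _
      rw [hσq, ← map_pow, hqdef, Nat.card_eq_fintype_card, FiniteField.pow_card]
      rfl
    set x := g⁻¹ * gmap D σ g with hxdef
    have hx : Tw σ (tE D K e) x := by
      refine ⟨mul_mem (inv_mem hgG) (gmap_mem_group σ hW.good hgG), ?_, ?_⟩
      · rw [hxdef, map_mul, map_inv, gmap_invol hσ]; group
      · have e1 := congrArg (gmap D σ) hge
        rw [map_mul, map_mul, map_inv, hσm', gmap_tE] at e1
        show tE D K e * x = x * tE D K e
        rw [hxdef]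
        calc _ = g⁻¹ * ι m * gmap D σ g := by rw [← hge]; group
          _ = _ := by rw [← e1]; group
    obtain ⟨Y, hY, hYt, hYx⟩ := twisted_trivial hW h hQ hneg h2K hq1 hK hσq e hx
    set g' := g * Y⁻¹ with hg'def
    have hfix : frobGL K p (fq : ℕ) g' = g' := by
      show gmap D σ g' = g'
      rw [hg'def, map_mul, map_inv, show gmap D σ g = g * x by rw [hxdef]; group, ← hYx]
      group
    obtain ⟨y₀, hy₀, hy₀e⟩ := exists_descend (F := F) p (fq : ℕ) hW h
      (torC_injective_of_chk hW hQ) hqf (mul_mem hgG (inv_mem hY)) hfix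
    refine ⟨y₀, hy₀, e, hιinj ?_⟩
    rw [map_mul, map_mul, map_inv, hι, map_tE, hy₀e, ← hι,
      show (g * Y⁻¹)⁻¹ * ι m * (g * Y⁻¹) = Y * (g⁻¹ * ι m * g) * Y⁻¹ by group, hge, ← hYt.eq]
    group

end CfsgLib.InvOdd
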