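import Cfsg.Agent.InvOdd.Shape
import Cfsg.Agent.LangTorus.Main

/-!
# Twisted conjugation at a negated root

A monomial twisted involution whose Weyl group element negates a root `r` fixed by the torus
element `t` is carried to a monomial one with fewer negated roots, provided the scalar at `r` is a
norm.
-/

set_option autoImplicit false

namespace CfsgLib.InvOdd

open Cfsg.Lie CfsgLib CfsgLib.Chevalley CfsgLib.ChevTorus CfsgLib.LangTorus CfsgLib.ChevSubfield
open scoped MatrixGroups

variable {D : ChevalleyDatum} {C : Weyl.Cert D.rank} {M : CoxeterMatrix (Fin D.rank)}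
  {R : Weyl.RootTable} {F : Type*} [Field F]

/-- The roots negated by `w`. -/
def negated (h : Weyl.RootGood C M R) (w : M.Group) : Finset (Root D) :=
  Finset.univ.filter fun x => h.rootPerm w x = x.rev

theorem mem_negated (h : Weyl.RootGood C M R) {w : M.Group} {x : Root D} :
    x ∈ negated h w ↔ h.rootPerm w x = x.rev := by simp [negated]

theorem wPerm_eq_self (hW : GoodWeyl D) (i : Fin D.rank) {x : Root D}
    (hx : D.cartan i x = 0) : wPerm hW i x = x := by
  have h1 : x ≠ pRoot hW i := fun e => by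
    rw [e, show D.cartan i (pRoot hW i) = 2 from hW.good.cartan_simple_self i.isLt] at hx
    exact two_ne_zero hx
  have h2 : x ≠ (pRoot hW i).rev := fun e => by
    rw [e, hW.good.cartan_rev,
      show D.cartan i (pRoot hW i) = 2 from hW.good.cartan_simple_self i.isLt] at hx
    omega
  apply Fin.ext
  show reflT D i x = x
  have h1' : ((x : ℕ) == D.simple i) = false :=
    beq_eq_false_iff_ne.2 fun e => h1 (Fin.ext e)
  have h2' : ((x : ℕ) == opp D (D.simple i)) = false :=
    beq_eq_false_iff_ne.2 fun e => h2 (Fin.ext (by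
      rw [e, opp, Fin.val_rev]; show _ = D.nroots - (D.simple i + 1); omega))
  simp [reflT, hW.good.cartanT_eq i.isLt x.isLt, hx, h1', h2']

/-- A reflection in a negated fundamental root lowers the number of negated roots. -/
theorem card_negated_simple_lt (hW : GoodWeyl D) (h : Weyl.RootGood C M R) {w : M.Group}
    (hww : w * w = 1) {i : Fin D.rank} (hi : h.rootPerm w (pRoot hW i) = (pRoot hW i).rev) :
    (negated h (M.simple i * w)).card < (negated h w).card := by
  obtain ⟨L, hL⟩ := exists_linear hW h w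
  have hrev : ∀ x : Root D, h.rootPerm w x.rev = (h.rootPerm w x).rev :=
    (monBy_nW (F := ℚ) hW h w).apply_rev
  have hwx : ∀ x : Root D, h.rootPerm w (h.rootPerm w x) = x := fun x => by
    rw [← Equiv.Perm.mul_apply, ← map_mul, hww, map_one, Equiv.Perm.one_apply]
  refine Finset.card_lt_card ((Finset.ssubset_iff_of_subset fun x hx => ?_).2
    ⟨pRoot hW i, (mem_negated h).2 hi, fun hp => ?_⟩)
  · rw [mem_negated] at hx ⊢
    rw [map_mul, Equiv.Perm.mul_apply, ← wPerm_eq_rootPerm hW h] at hx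
    have hwx' : h.rootPerm w x = (wPerm hW i x).rev := by
      rw [← hW.wPerm_rev, ← hx, hW.wPerm_wPerm]
    set X : Fin D.rank → ℤ := fun k => D.cartan k x with hX
    set P : Fin D.rank → ℤ := fun k => D.cartan k (pRoot hW i) with hP
    set a := D.cartan i x with ha
    have hP2 : P i = 2 := hW.good.cartan_simple_self i.isLt
    have eLX : L X = -X + a • P := by
      rw [hX, ← hL x, hwx']
      funext k
      show D.cartan k (wPerm hW i x).rev = _
      rw [hW.good.cartan_rev, hW.cartan_wPerm]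
      simp only [hP, ha, Pi.add_apply, Pi.neg_apply, Pi.smul_apply, smul_eq_mul]
      ring
    have eLP : L P = -P := by
      rw [hP, ← hL (pRoot hW i), hi]
      funext k
      exact hW.good.cartan_rev k _
    have e3 := hL (h.rootPerm w x)
    rw [hwx, hL x, ← hX, eLX] at e3
    rw [map_add, map_neg, map_zsmul, eLX, eLP] at e3
    have e4 := congrFun e3 i
    simp only [Pi.add_apply, Pi.neg_apply, Pi.smul_apply, smul_eq_mul, hP2] at e4
    have ha0 : a = 0 := by omega
    rw [hwx', wPerm_eq_self hW i ha0]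
  · rw [mem_negated, map_mul, Equiv.Perm.mul_apply, hi, ← wPerm_eq_rootPerm hW h, hW.wPerm_rev,
      hW.wPerm_pRoot, Fin.rev_rev] at hp
    exact hW.good.rev_ne _ hp.symm

/-- Conjugate elements of the Weyl group negate conjugate sets of roots. -/
theorem card_negated_conj (hW : GoodWeyl D) (h : Weyl.RootGood C M R) (v u : M.Group) :
    (negated h (v⁻¹ * u * v)).card = (negated h u).card := by
  refine Finset.card_equiv (h.rootPerm v) fun x => ?_
  rw [mem_negated, mem_negated, map_mul, map_mul, Equiv.Perm.mul_apply, Equiv.Perm.mul_apply,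
    map_inv, Equiv.Perm.inv_eq_iff_eq, (monBy_nW (F := ℚ) hW h v).apply_rev]

/-- Every root is the image of a fundamental one. -/
theorem exists_simple_conj (hW : GoodWeyl D) (h : Weyl.RootGood C M R) (r : Root D) :
    ∃ (ω : List (Fin D.rank)) (i : Fin D.rank),
      h.rootPerm (M.toCoxeterSystem.wordProd ω) (pRoot hW i) = r := by
  refine hW.root_induction (P := fun r => ∃ (ω : List (Fin D.rank)) (i : Fin D.rank),
    h.rootPerm (M.toCoxeterSystem.wordProd ω) (pRoot hW i) = r)
    (fun i => ⟨[], i, by simp⟩) ?_ r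
  rintro j s ⟨ω, i, e⟩
  exact ⟨j :: ω, i, by
    rw [CoxeterSystem.wordProd_cons, CoxeterMatrix.toCoxeterSystem_simple, map_mul,
      Equiv.Perm.mul_apply, e, wPerm_eq_rootPerm hW h]⟩

/-- The scalar at a negated root. -/
theorem exists_scalar (hW : GoodWeyl D) {σ : F →+* F} {m : GL D.Idx F}
    {π : Equiv.Perm (Root D)} (hπ : MonBy hW m π) (he : m * gmap D σ m = 1) {r : Root D}
    (hr : π r = r.rev) :
    ∃ c : Fˣ, σ (c : F) = c ∧ (∀ z, m * X hW.good r z * m⁻¹ = X hW.good r.rev ((c : F) * z)) ∧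
      ∀ z, m * X hW.good r.rev z * m⁻¹ = X hW.good r (((c⁻¹ : Fˣ) : F) * z) := by
  obtain ⟨c, h1, h2⟩ := hπ r
  rw [hr] at h1
  simp only [hr, Fin.rev_rev] at h2
  refine ⟨c, ?_, h1, h2⟩
  have e1 := congrArg (gmap D σ) (h1 1)
  rw [map_mul, map_mul, map_inv, X_map, X_map, map_one, mul_one,
    eq_inv_of_mul_eq_one_right he] at e1
  have e2 : m * X hW.good r.rev (σ (c : F)) * m⁻¹ = X hW.good r 1 := by rw [← e1]; group
  rw [h2] at e2
  have e3 := congrArg (fun z : F => (c : F) * z) (X_injective hW.good r e2)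
  simpa using e3

theorem commute_X_rev (hW : GoodWeyl D) {t : GL D.Idx F} (ht : t ∈ D.diagonalSubgroup F)
    {r : Root D} (hr : ∀ z : F, Commute t (X hW.good r z)) :
    ∀ z : F, Commute t (X hW.good r.rev z) := by
  rw [diagonalSubgroup_eq_range hW] at ht
  obtain ⟨c, rfl⟩ := ht
  refine (torC_commute_X_iff hW c _).2 ?_
  have := (torC_commute_X_iff hW c r).1 hr
  simp only [torVal, wt_inr, hW.good.cartan_rev, zpow_neg, Finset.prod_inv_distrib] at this ⊢
  rw [this, inv_one]

/-- The reduction at a fundamental root. -/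
theorem reduce_simple (hW : GoodWeyl D) (h : Weyl.RootGood C M R) (h2 : (2 : F) ≠ 0)
    {σ : F →+* F} {t m : GL D.Idx F} (ht : t ∈ D.diagonalSubgroup F)
    (hmN : m ∈ D.monomialSubgroup F) (i : Fin D.rank)
    (hti : ∀ z : F, Commute t (X hW.good (pRoot hW i) z))
    (c : Fˣ) (hc : ∀ z, m * X hW.good (pRoot hW i) z * m⁻¹ =
      X hW.good (pRoot hW i).rev ((c : F) * z))
    (hc' : ∀ z, m * X hW.good (pRoot hW i).rev z * m⁻¹ =
      X hW.good (pRoot hW i) (((c⁻¹ : Fˣ) : F) * z))
    (lam : Fˣ) (hlam : (lam : F) * σ (lam : F) = c) :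
    ∃ y ∈ D.group F, Commute t y ∧ ∃ hm' : y⁻¹ * m * gmap D σ y ∈ D.monomialSubgroup F,
      weylHom hW h ⟨_, hm'⟩ = M.simple i * weylHom hW h ⟨m, hmN⟩ := by
  set p := pRoot hW i
  set e : F := ((lam⁻¹ : Fˣ) : F) with he
  have hlne : (lam : F) ≠ 0 := lam.ne_zero
  have hle : (lam : F) * e = 1 := Units.mul_inv lam
  have hσle : σ (lam : F) * σ e = 1 := by rw [← map_mul, hle, map_one]
  have hcne : (c : F) ≠ 0 := c.ne_zero
  set Y := X hW.good p.rev (lam : F) * X hW.good p (-e / 2) with hY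
  have hYt : Commute t Y := (commute_X_rev hW ht hti _).mul_right (hti _)
  have hYG : Y ∈ D.group F := mul_mem (X_mem_group _ _ _) (X_mem_group _ _ _)
  -- the scalars after conjugation by `m`
  have s1 : (c : F) * σ (-e / 2) = -(lam : F) / 2 := by
    rw [map_div₀, map_neg, map_ofNat, ← hlam, ← mul_div_assoc, mul_neg, mul_assoc, hσle, mul_one]
  have s2 : ((c⁻¹ : Fˣ) : F) * σ (lam : F) = e := by
    have hs : σ (lam : F) ≠ 0 := left_ne_zero_of_mul_eq_one hσle
    simp only [he, Units.val_inv_eq_inv_val, ← hlam]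
    field_simp
  set E : GL D.Idx F := nElt hW.good p lam⁻¹ with hE
  have hEN : E = hT F p lam⁻¹ * nR hW i := nWord_eq hW i lam⁻¹
  have hEmon : E ∈ D.monomialSubgroup F := by
    rw [hEN]
    exact mul_mem (diag_le_monomial D (hT_mem_diagonal hW _ _)) (nR_mem_monomial hW i)
  have hEX : E * X hW.good p.rev (-(lam : F) / 2) = X hW.good p (e / 2) * E := by
    rw [← mul_inv_eq_iff_eq_mul, hEN]
    calc _ = hT F p lam⁻¹ * (nR hW i * X hW.good p.rev (-(lam : F) / 2) * (nR hW i)⁻¹) *
          (hT F p lam⁻¹)⁻¹ := by group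
      _ = X hW.good p (e / 2) := by
        rw [nR_conj, hW.wPerm_rev, hW.wPerm_pRoot, Fin.rev_rev, hW.eta_rev, hW.eta_pRoot,
          hT_pRoot_conj_X, show D.cartan i (pRoot hW i) = 2 from hW.good.cartan_simple_self i.isLt]
        congr 1
        simp only [he, Units.val_zpow_eq_zpow_val, Units.val_inv_eq_inv_val]
        push_cast
        field_simp
  have key : Y⁻¹ * m * gmap D σ Y = E * m := by
    have e1 : m * gmap D σ Y * m⁻¹ = X hW.good p e * X hW.good p.rev (-(lam : F) / 2) := by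
      rw [hY, map_mul, X_map, X_map,
        show m * (X hW.good p.rev (σ (lam : F)) * X hW.good p (σ (-e / 2))) * m⁻¹ =
          (m * X hW.good p.rev (σ (lam : F)) * m⁻¹) * (m * X hW.good p (σ (-e / 2)) * m⁻¹) by group,
        hc, hc', s1, s2]
    calc Y⁻¹ * m * gmap D σ Y = Y⁻¹ * (m * gmap D σ Y * m⁻¹) * m := by group
      _ = X hW.good p (e / 2) * X hW.good p.rev (-(lam : F)) * X hW.good p e *
            X hW.good p.rev (-(lam : F) / 2) * m := by
          rw [e1, hY, mul_inv_rev, X_inv, X_inv, show -(-e / 2) = e / 2 by ring]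
          simp only [mul_assoc]
      _ = X hW.good p (-(e / 2)) * (E * X hW.good p.rev (-(lam : F) / 2)) * m := by
          rw [hE, nElt, inv_inv, ← he]
          simp only [← mul_assoc]
          rw [X_mul]
          congr 5
          field_simp
          ring
      _ = E * m := by rw [hEX, ← mul_assoc, X_mul, neg_add_cancel, X_zero, one_mul]
  refine ⟨Y, hYG, hYt, key ▸ mul_mem hEmon hmN, ?_⟩
  have hwE : weylHom hW h ⟨E, hEmon⟩ = M.simple i := by
    have hd : (⟨hT F p lam⁻¹, diag_le_monomial D (hT_mem_diagonal hW _ _)⟩ :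
        ↥(D.monomialSubgroup F)) ∈ (weylHom hW h).ker := by
      rw [ker_weylHom]; exact hT_mem_diagonal hW _ _
    rw [show (⟨E, hEmon⟩ : ↥(D.monomialSubgroup F)) =
      ⟨hT F p lam⁻¹, diag_le_monomial D (hT_mem_diagonal hW _ _)⟩ *
        ⟨nR hW i, nR_mem_monomial hW i⟩ from Subtype.ext hEN, map_mul,
      MonoidHom.mem_ker.1 hd, weylHom_nR, one_mul]
  rw [← hwE, ← map_mul]
  exact congrArg _ (Subtype.ext key)

/-- The reduction at any negated root: a monomial twisted involution gets fewer negated roots. -/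
theorem reduce (hW : GoodWeyl D) (h : Weyl.RootGood C M R) (h2 : (2 : F) ≠ 0)
    {σ : F →+* F} {t m : GL D.Idx F} (ht : t ∈ D.diagonalSubgroup F)
    (hmN : m ∈ D.monomialSubgroup F) (he : m * gmap D σ m = 1) {r : Root D}
    (hr : h.rootPerm (weylHom hW h ⟨m, hmN⟩) r = r.rev)
    (htr : ∀ z : F, Commute t (X hW.good r z))
    (c : Fˣ) (hc : ∀ z, m * X hW.good r z * m⁻¹ = X hW.good r.rev ((c : F) * z))
    (hc' : ∀ z, m * X hW.good r.rev z * m⁻¹ = X hW.good r (((c⁻¹ : Fˣ) : F) * z))
    (lam : Fˣ) (hlam : (lam : F) * σ (lam : F) = c) :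
    ∃ y ∈ D.group F, Commute t y ∧ ∃ hm' : y⁻¹ * m * gmap D σ y ∈ D.monomialSubgroup F,
      (negated h (weylHom hW h ⟨_, hm'⟩)).card < (negated h (weylHom hW h ⟨m, hmN⟩)).card := by
  obtain ⟨ω, i, hvr⟩ := exists_simple_conj hW h r
  set v := M.toCoxeterSystem.wordProd ω with hv
  set p := pRoot hW i with hp
  set N := nWord hW F ω with hN
  set w := weylHom hW h ⟨m, hmN⟩ with hw
  have hNm : N ∈ D.monomialSubgroup F := nWord_mem hW F ω
  have hwN : weylHom hW h ⟨N, hNm⟩ = v := weylHom_nWord hW h F ω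
  have hNG : N ∈ D.group F := monomial_le_group hW hNm
  have hσN : gmap D σ N = N := nWord_map hW σ ω
  obtain ⟨a, ha, ha'⟩ := monBy_weylHom hW h (⟨N, hNm⟩ : ↥(D.monomialSubgroup F)) p
  simp only [hwN, hvr] at ha ha'
  change ∀ z, N * X hW.good p z * N⁻¹ = X hW.good r ((a : F) * z) at ha
  change ∀ z, N * X hW.good p.rev z * N⁻¹ = X hW.good r.rev (((a⁻¹ : Fˣ) : F) * z) at ha'
  have hσa : σ (a : F) = a := by
    have e1 := congrArg (gmap D σ) (ha 1)
    rw [map_mul, map_mul, map_inv, X_map, X_map, map_one, hσN, ha, mul_one] at e1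
    exact (X_injective hW.good r e1).symm
  -- the data in the frame of the fundamental root
  set t' := N⁻¹ * t * N with ht'def
  set m' := N⁻¹ * m * N with hm'def
  have ht' : t' ∈ D.diagonalSubgroup F :=
    (Subgroup.mem_normalizer_iff''.1 (monomial_le_normalizer hW hNm) t).1 ht
  have hm'N : m' ∈ D.monomialSubgroup F := mul_mem (mul_mem (inv_mem hNm) hmN) hNm
  have hwm' : weylHom hW h ⟨m', hm'N⟩ = v⁻¹ * w * v := by
    rw [show (⟨m', hm'N⟩ : ↥(D.monomialSubgroup F)) = ⟨N, hNm⟩⁻¹ * ⟨m, hmN⟩ * ⟨N, hNm⟩ from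
      Subtype.ext rfl, map_mul, map_mul, map_inv, hwN]
  have hv' : h.rootPerm v p.rev = r.rev := by
    rw [(monBy_nW (F := F) hW h v).apply_rev, hvr]
  have ht'p : ∀ z : F, Commute t' (X hW.good p z) := fun z => by
    have e1 : X hW.good p z = N⁻¹ * X hW.good r ((a : F) * z) * N := by rw [← ha]; group
    show t' * _ = _ * t'
    rw [e1, ht'def]
    calc _ = N⁻¹ * (t * X hW.good r ((a : F) * z)) * N := by group
      _ = _ := by rw [(htr _).eq]; group
  obtain ⟨y', hy'G, hy't, hm'', hw''⟩ := reduce_simple hW h h2 ht' hm'N i ht'p (a * c * a)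
    (σ := σ)
    (fun z => by
      calc m' * X hW.good p z * m'⁻¹ = N⁻¹ * (m * (N * X hW.good p z * N⁻¹) * m⁻¹) * N := by
            rw [hm'def]; group
        _ = N⁻¹ * X hW.good r.rev ((c : F) * ((a : F) * z)) * N := by rw [ha, hc]
        _ = X hW.good p.rev (((a * c * a : Fˣ) : F) * z) := by
            have e1 : (c : F) * ((a : F) * z) =
                ((a⁻¹ : Fˣ) : F) * (((a * c * a : Fˣ) : F) * z) := by
              simp only [← mul_assoc, ← Units.val_mul, inv_mul_cancel, one_mul]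
            rw [e1, ← ha']
            group)
    (fun z => by
      calc m' * X hW.good p.rev z * m'⁻¹ =
            N⁻¹ * (m * (N * X hW.good p.rev z * N⁻¹) * m⁻¹) * N := by rw [hm'def]; group
        _ = N⁻¹ * X hW.good r (((c⁻¹ : Fˣ) : F) * (((a⁻¹ : Fˣ) : F) * z)) * N := by rw [ha', hc']
        _ = X hW.good p (((a * c * a)⁻¹ : Fˣ) * z) := by
            have e1 : ((c⁻¹ : Fˣ) : F) * (((a⁻¹ : Fˣ) : F) * z) =
                (a : F) * ((((a * c * a)⁻¹ : Fˣ) : F) * z) := by
              simp only [← mul_assoc, ← Units.val_mul, mul_inv_rev, mul_inv_cancel, one_mul]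
            rw [e1, ← ha]
            group)
    (a * lam) (by
      simp only [Units.val_mul, map_mul, hσa, ← hlam]
      ring)
  set n' := y'⁻¹ * m' * gmap D σ y' with hn'
  have key : (N * y' * N⁻¹)⁻¹ * m * gmap D σ (N * y' * N⁻¹) = N * n' * N⁻¹ := by
    rw [hn', hm'def, map_mul, map_mul, map_inv, hσN]
    group
  refine ⟨N * y' * N⁻¹, mul_mem (mul_mem hNG hy'G) (inv_mem hNG), ?_,
    key ▸ mul_mem (mul_mem hNm hm'') (inv_mem hNm), ?_⟩
  · show t * _ = _ * t
    calc t * (N * y' * N⁻¹) = N * (t' * y') * N⁻¹ := by rw [ht'def]; group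
      _ = _ := by rw [hy't.eq, ht'def]; group
  · set n'' : ↥(D.monomialSubgroup F) := ⟨n', hm''⟩
    have e1 : ∀ hm, weylHom hW h ⟨(N * y' * N⁻¹)⁻¹ * m * gmap D σ (N * y' * N⁻¹), hm⟩ =
        v * (M.simple i * (v⁻¹ * w * v)) * v⁻¹ := by
      intro hm
      rw [show (⟨_, hm⟩ : ↥(D.monomialSubgroup F)) = ⟨N, hNm⟩ * n'' * ⟨N, hNm⟩⁻¹ from
        Subtype.ext key, map_mul, map_mul, map_inv, hwN, hw'', hwm']
    rw [e1]
    have hww : (v⁻¹ * w * v) * (v⁻¹ * w * v) = 1 := by
      rw [show v⁻¹ * w * v * (v⁻¹ * w * v) = v⁻¹ * (w * w) * v by group,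
        tw_weyl_mul_self hW h σ hmN he]
      group
    have hneg : h.rootPerm (v⁻¹ * w * v) p = p.rev := by
      rw [map_mul, map_mul, Equiv.Perm.mul_apply, Equiv.Perm.mul_apply, hvr, hr, map_inv,
        Equiv.Perm.inv_eq_iff_eq, hv']
    have h4 := card_negated_simple_lt hW h hww hneg
    have h5 := card_negated_conj hW h v⁻¹ (M.simple i * (v⁻¹ * w * v))
    rw [inv_inv] at h5
    rw [h5]
    rwa [card_negated_conj hW h v w] at h4

end CfsgLib.InvOdd
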