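import Cfsg.Agent.InvOdd.Torus
import Mathlib.GroupTheory.OrderOfElement

/-!
# Twisted involutions centralising a torus element are twisted conjugate to monomial ones

For an involutory field endomorphism `σ` of a finite field of odd characteristic, an element `g`
with `g σ(g) = 1` commuting with a fixed torus element `t` is carried by some `y⁻¹ g σ(y)`, with
`y` commuting with `t`, to a monomial element.
-/

set_option autoImplicit false
set_option linter.style.haveILetI false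

namespace CfsgLib.InvOdd

open Cfsg.Lie CfsgLib CfsgLib.Chevalley CfsgLib.ChevTorus CfsgLib.LangTorus CfsgLib.ChevSubfield
open scoped MatrixGroups

variable {D : ChevalleyDatum} {F : Type*} [Field F]

/-- A twisted involution centralising `t`. -/
def Tw (σ : F →+* F) (t g : GL D.Idx F) : Prop :=
  g ∈ D.group F ∧ g * gmap D σ g = 1 ∧ Commute t g

theorem gmap_invol {σ : F →+* F} (hσ : ∀ x, σ (σ x) = x) (g : GL D.Idx F) :
    gmap D σ (gmap D σ g) = g :=
  Units.ext (Matrix.ext fun _ _ => hσ _)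

theorem commute_gmap {σ : F →+* F} {t y : GL D.Idx F} (htσ : gmap D σ t = t)
    (hy : Commute t y) : Commute t (gmap D σ y) := by
  have := hy.map (gmap D σ)
  rwa [htσ] at this

theorem Tw.conj {σ : F →+* F} (hσ : ∀ x, σ (σ x) = x) (hD : Good D) {t g y : GL D.Idx F}
    (htσ : gmap D σ t = t) (hg : Tw σ t g) (hy : y ∈ D.group F) (hyt : Commute t y) :
    Tw σ t (y⁻¹ * g * gmap D σ y) := by
  refine ⟨mul_mem (mul_mem (inv_mem hy) hg.1) (gmap_mem_group σ hD hy), ?_,
    (hyt.inv_right.mul_right hg.2.2).mul_right (commute_gmap htσ hyt)⟩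
  rw [map_mul, map_mul, map_inv, gmap_invol hσ,
    show y⁻¹ * g * gmap D σ y * ((gmap D σ y)⁻¹ * gmap D σ g * y) = y⁻¹ * (g * gmap D σ g) * y by
      group, hg.2.1]
  group

variable {C : Weyl.Cert D.rank} {M : CoxeterMatrix (Fin D.rank)} {R : Weyl.RootTable}

theorem exists_normal_form_pow (hW : GoodWeyl D) {u k : GL D.Idx F}
    (hu : u ∈ D.posUnipotent F) (hk : k ∈ D.diagonalSubgroup F) :
    ∀ n : ℕ, ∃ v ∈ D.posUnipotent F, (u * k) ^ n = v * k ^ n
  | 0 => ⟨1, one_mem _, by simp⟩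
  | n + 1 => by
    obtain ⟨v, hv, e⟩ := exists_normal_form_pow hW hu hk n
    refine ⟨v * (k ^ n * u * (k ^ n)⁻¹), mul_mem hv ((Subgroup.mem_normalizer_iff.1
      (diag_le_normalizer_pos hW (pow_mem hk n)) u).1 hu), ?_⟩
    rw [pow_succ, e, pow_succ]
    group

theorem pow_pos_eq_one (hW : GoodWeyl D) [Finite F] {u : GL D.Idx F}
    (hu : u ∈ D.posUnipotent F) : u ^ Nat.card F ^ half D = 1 := by
  have h : Nat.card (D.posUnipotent F) = Nat.card F ^ half D := by
    rw [posUnipotent_eq hW.good]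
    exact natCard_uGe (b := false) hW.toGoodUni
  have h1 := pow_card_eq_one' (x := (⟨u, hu⟩ : ↥(D.posUnipotent F)))
  rw [h] at h1
  exact congrArg Subtype.val h1

theorem pow_diag_eq_one (hW : GoodWeyl D) [Finite F] {k : GL D.Idx F}
    (hk : k ∈ D.diagonalSubgroup F) : k ^ (Nat.card F - 1) = 1 := by
  rw [diagonalSubgroup_eq_range hW] at hk
  obtain ⟨c, rfl⟩ := hk
  rw [← map_pow, show c ^ (Nat.card F - 1) = 1 from funext fun j => by
    rw [Pi.pow_apply, ← Nat.card_units, Pi.one_apply]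
    exact pow_card_eq_one', map_one]

theorem odd_natCard [Finite F] (h2 : (2 : F) ≠ 0) : Odd (Nat.card F) := by
  haveI := Fintype.ofFinite F
  rw [Nat.card_eq_fintype_card]
  by_contra hev
  rw [Nat.not_odd_iff_even] at hev
  have h0 : (Fintype.card F : F) = 0 := Nat.cast_card_eq_zero F
  obtain ⟨p, hp⟩ := CharP.exists F
  obtain ⟨n, hpp, hcard⟩ := FiniteField.card F p
  rw [hcard, Nat.even_pow] at hev
  obtain rfl : p = 2 := (Nat.Prime.even_iff hpp).1 hev.1
  exact h2 (by exact_mod_cast CharP.cast_eq_zero F 2)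

/-- The Weyl group element of a monomial twisted involution is an involution. -/
theorem tw_weyl_mul_self (hW : GoodWeyl D) (h : Weyl.RootGood C M R) (σ : F →+* F)
    {m : GL D.Idx F} (hm : m ∈ D.monomialSubgroup F) (he : m * gmap D σ m = 1) :
    weylHom hW h ⟨m, hm⟩ * weylHom hW h ⟨m, hm⟩ = 1 := by
  obtain ⟨k, hk, e⟩ := gmap_monomial σ hW hm
  have hkN : k ∈ D.monomialSubgroup F := diag_le_monomial D hk
  have e1 : (⟨m, hm⟩ : ↥(D.monomialSubgroup F)) * ⟨m, hm⟩ * ⟨k, hkN⟩ = 1 := Subtype.ext (by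
    show m * m * k = 1
    rw [mul_assoc, ← e, he])
  have hk1 : weylHom hW h (⟨k, hkN⟩ : ↥(D.monomialSubgroup F)) = 1 := by
    have : (⟨k, hkN⟩ : ↥(D.monomialSubgroup F)) ∈ (weylHom hW h).ker := by
      rw [ker_weylHom]; exact hk
    exact this
  have := congrArg (weylHom hW h) e1
  rwa [map_mul, map_mul, hk1, mul_one, map_one] at this

/-- A twisted involution centralising `t` is twisted conjugate within the centraliser to a monomial
element. -/
theorem exists_monomial (hW : GoodWeyl D) (h : Weyl.RootGood C M R) [Finite F] (h2 : (2 : F) ≠ 0)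
    {σ : F →+* F} (hσ : ∀ x, σ (σ x) = x) {t g : GL D.Idx F} (ht : t ∈ D.diagonalSubgroup F)
    (htσ : gmap D σ t = t) (hg : Tw σ t g) :
    ∃ y ∈ D.group F, Commute t y ∧ y⁻¹ * g * gmap D σ y ∈ D.monomialSubgroup F := by
  obtain ⟨hgG, hgσ, hgt⟩ := hg
  obtain ⟨⟨w, b, c⟩, ⟨hb, hc, e⟩, huniq⟩ := existsUnique_form hW h hgG
  dsimp only at hb hc e huniq
  set n := nW hW h F w with hn
  have hnN : n ∈ D.monomialSubgroup F := nW_mem hW h w
  -- the right factor commutes with `t`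
  have hct : Commute t c := by
    have hk : t * n * t⁻¹ * n⁻¹ ∈ D.diagonalSubgroup F := by
      rw [show t * n * t⁻¹ * n⁻¹ = t * (n * t⁻¹ * n⁻¹) by group]
      exact mul_mem ht ((Subgroup.mem_normalizer_iff.1
        (monomial_le_normalizer hW hnN) _).1 (inv_mem ht))
    have h3 := huniq (w, t * b * t⁻¹ * (t * n * t⁻¹ * n⁻¹), t * c * t⁻¹)
      ⟨mul_mem (mul_mem (mul_mem (diag_le_borel D ht) hb) (inv_mem (diag_le_borel D ht)))
        (diag_le_borel D hk), diag_conj_rootGen hW ht hc, by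
        calc _ = t * (b * n * c) * t⁻¹ := by rw [← hn]; group
          _ = g := by rw [e, hgt.eq, mul_inv_cancel_right]⟩
    simp only [Prod.mk.injEq, true_and] at h3
    exact mul_inv_eq_iff_eq_mul.1 h3.2
  -- move the right factor to the left
  set y₁ := gmap D σ c⁻¹ with hy₁
  have hcU : c ∈ D.posUnipotent F := uW_le_pos hW h w hc
  have hcG : c ∈ D.group F := borel_le_group hW (pos_le_borel D hcU)
  have hy₁G : y₁ ∈ D.group F := gmap_mem_group σ hW.good (inv_mem hcG)
  have hy₁t : Commute t y₁ := commute_gmap htσ hct.inv_right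
  set g₁ := y₁⁻¹ * g * gmap D σ y₁ with hg₁
  have hT₁ : Tw σ t g₁ := Tw.conj hσ hW.good htσ ⟨hgG, hgσ, hgt⟩ hy₁G hy₁t
  have e₁ : g₁ = gmap D σ c * b * n := by
    rw [hg₁, hy₁, gmap_invol hσ, map_inv, inv_inv, ← e]
    group
  -- the cell is that of an involution
  have hcell : g₁ ∈ cell hW h F w :=
    ⟨gmap D σ c * b, mul_mem (gmap_mem_borel σ hW (pos_le_borel D hcU)) hb, 1, one_mem _,
      by rw [e₁, mul_one]⟩
  have hww : w * w = 1 := by
    have h1 : g₁⁻¹ ∈ cell hW h F w := by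
      rw [inv_eq_of_mul_eq_one_right hT₁.2.1]
      exact gmap_mem_cell σ hW h hcell
    have h2' : g₁⁻¹ ∈ cell hW h F w⁻¹ := by
      obtain ⟨p, hp, p', hp', ep⟩ := hcell
      have hn' := mem_cell_self hW h (⟨n, hnN⟩⁻¹ : ↥(D.monomialSubgroup F))
      rw [map_inv, weylHom_nW, Subgroup.coe_inv] at hn'
      have h4 := mul_mem_cell hW h (inv_mem hp') hn' (inv_mem hp)
      rw [← ep]
      rwa [show (p * nW hW h F w * p')⁻¹ = p'⁻¹ * (nW hW h F w)⁻¹ * p⁻¹ by group]
    have h3 : w = w⁻¹ := cell_eq_of_mem hW h h1 h2'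
    nth_rw 1 [h3]
    exact inv_mul_cancel w
  -- split off the unipotent part
  obtain ⟨u, hu, k, hk, euk⟩ :=
    (mem_borel_iff hW).1 (mul_mem (gmap_mem_borel σ hW (pos_le_borel D hcU)) hb)
  set m := k * n with hm
  have hmN : m ∈ D.monomialSubgroup F := mul_mem (diag_le_monomial D hk) hnN
  have e₂ : g₁ = u * m := by rw [e₁, ← euk, hm, mul_assoc]
  have hwm : weylHom hW h ⟨m, hmN⟩ = w := by
    have h1 : (⟨k, diag_le_monomial D hk⟩ : ↥(D.monomialSubgroup F)) ∈ (weylHom hW h).ker := by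
      rw [ker_weylHom]; exact hk
    show weylHom hW h (⟨k, diag_le_monomial D hk⟩ * ⟨n, hnN⟩) = w
    rw [map_mul, weylHom_nW, MonoidHom.mem_ker.1 h1, one_mul]
  -- `u` commutes with `t`
  have hut : Commute t u := by
    have hk' : t * m * t⁻¹ * m⁻¹ ∈ D.diagonalSubgroup F := by
      rw [show t * m * t⁻¹ * m⁻¹ = t * (m * t⁻¹ * m⁻¹) by group]
      exact mul_mem ht ((Subgroup.mem_normalizer_iff.1
        (monomial_le_normalizer hW hmN) _).1 (inv_mem ht))
    have h1 : u⁻¹ * (t * u * t⁻¹) = (t * m * t⁻¹ * m⁻¹)⁻¹ := by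
      rw [eq_inv_iff_mul_eq_one]
      calc _ = u⁻¹ * (t * (u * m) * t⁻¹) * m⁻¹ := by group
        _ = 1 := by rw [← e₂, hT₁.2.2.eq, mul_inv_cancel_right, e₂]; group
    have h4 : u⁻¹ * (t * u * t⁻¹) ∈ D.posUnipotent F ⊓ D.diagonalSubgroup F :=
      Subgroup.mem_inf.2 ⟨mul_mem (inv_mem hu)
        ((Subgroup.mem_normalizer_iff.1 (diag_le_normalizer_pos hW ht) u).1 hu),
        h1 ▸ inv_mem hk'⟩
    rw [pos_inf_diag hW, Subgroup.mem_bot, inv_mul_eq_one] at h4
    exact mul_inv_eq_iff_eq_mul.1 h4.symm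
  -- `m` is a twisted involution inverting `u`
  have hms : m * gmap D σ m ∈ D.diagonalSubgroup F := by
    obtain ⟨l, hl, el⟩ := gmap_monomial σ hW hmN
    have h1 : (⟨m, hmN⟩ : ↥(D.monomialSubgroup F)) * ⟨m, hmN⟩ ∈ (weylHom hW h).ker := by
      rw [MonoidHom.mem_ker, map_mul, hwm, hww]
    rw [ker_weylHom] at h1
    rw [el, ← mul_assoc]
    exact mul_mem h1 hl
  set l := m * gmap D σ m with hldef
  set v := m * gmap D σ u * m⁻¹ with hvdef
  have h5 : v = u⁻¹ * l⁻¹ := by
    have := hT₁.2.1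
    rw [e₂, map_mul] at this
    rw [← mul_inv_rev, eq_inv_iff_mul_eq_one, hvdef, hldef]
    calc _ = u⁻¹ * (u * m * (gmap D σ u * gmap D σ m)) * u := by group
      _ = 1 := by rw [this]; group
  set N := Nat.card F ^ half D with hN
  have hvN : v ^ N = 1 := by
    rw [hvdef, conj_pow, ← map_pow, pow_pos_eq_one hW hu, map_one, mul_one, mul_inv_cancel]
  have hlN : (l⁻¹) ^ N = 1 := by
    obtain ⟨v', hv', ev⟩ := exists_normal_form_pow hW (inv_mem hu) (inv_mem hms) N
    rw [← h5, hvN] at ev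
    have h6 : (l⁻¹) ^ N ∈ D.posUnipotent F ⊓ D.diagonalSubgroup F :=
      Subgroup.mem_inf.2 ⟨eq_inv_of_mul_eq_one_right ev.symm ▸ inv_mem hv',
        pow_mem (inv_mem hms) N⟩
    rwa [pos_inf_diag hW, Subgroup.mem_bot] at h6
  have hl1 : l = 1 := by
    have hq : 1 < Nat.card F := Finite.one_lt_card
    have hcop : Nat.Coprime N (Nat.card F - 1) := by
      refine Nat.Coprime.pow_left _ ?_
      conv_lhs => rw [show Nat.card F = (Nat.card F - 1) + 1 by omega]
      exact Nat.coprime_self_add_left.2 (Nat.coprime_one_left _)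
    have h7 : (l⁻¹) ^ Nat.gcd N (Nat.card F - 1) = 1 :=
      pow_gcd_eq_one.2 ⟨hlN, pow_diag_eq_one hW (inv_mem hms)⟩
    rw [hcop, pow_one, inv_eq_one] at h7
    exact h7
  rw [hl1, inv_one, mul_one] at h5
  -- the square root of `u`
  obtain ⟨j, hj⟩ := (odd_natCard h2).pow (n := half D)
  set c' := u ^ (j + 1) with hc'def
  have hsq : c' * c' = u := by
    rw [hc'def, ← pow_add, show j + 1 + (j + 1) = N + 1 by omega, pow_succ,
      pow_pos_eq_one hW hu, one_mul]
  have hmc : m * gmap D σ c' = c'⁻¹ * m := by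
    rw [← mul_inv_eq_iff_eq_mul, hc'def, map_pow, ← conj_pow, ← hvdef, h5, inv_pow]
  have huG : u ∈ D.group F := borel_le_group hW (pos_le_borel D hu)
  refine ⟨y₁ * c', mul_mem hy₁G (pow_mem huG _), hy₁t.mul_right (hut.pow_right _), ?_⟩
  rw [show (y₁ * c')⁻¹ * g * gmap D σ (y₁ * c') = c'⁻¹ * g₁ * gmap D σ c' by
    rw [hg₁, map_mul]; group, e₂,
    show c'⁻¹ * (u * m) * gmap D σ c' = c'⁻¹ * u * (m * gmap D σ c') by group, hmc, ← hsq]
  convert hmN using 1
  group

end CfsgLib.InvOdd
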