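import Cfsg.Agent.ChevSubfield.CartanInverse
import Cfsg.Agent.ChevTorus.Order
import Cfsg.Agent.LangTorus.Regular
import Cfsg.Agent.Chevalley.BruhatUnique

/-!
# The elements of order two of the torus in odd characteristic
-/

set_option autoImplicit false

namespace CfsgLib.InvOdd

open Cfsg.Lie CfsgLib CfsgLib.Chevalley CfsgLib.ChevTorus CfsgLib.LangTorus CfsgLib.ChevSubfield
open scoped MatrixGroups

variable {D : ChevalleyDatum} {F : Type*} [Field F]

/-- The exponent of `-1` by which the torus element of the code `e` scales the root `r`. -/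
def par (D : ChevalleyDatum) (e : Fin D.rank → Bool) (r : Root D) : ℤ :=
  ∑ k : Fin D.rank, if e k then D.cartan k r else 0

/-- The torus element of the code `e` fixes the root `r`. -/
def Fixes (D : ChevalleyDatum) (e : Fin D.rank → Bool) (r : Root D) : Prop := 2 ∣ par D e r

instance (e : Fin D.rank → Bool) (r : Root D) : Decidable (Fixes D e r) :=
  inferInstanceAs (Decidable (_ ∣ _))

/-- The coordinates `±1` of a code. -/
def sgnC (D : ChevalleyDatum) (F : Type*) [Field F] (e : Fin D.rank → Bool) : Fin D.rank → Fˣ :=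
  fun k => if e k then -1 else 1

/-- The torus element of a code. -/
def tE (D : ChevalleyDatum) (F : Type*) [Field F] (e : Fin D.rank → Bool) : GL D.Idx F :=
  torC D (sgnC D F e)

theorem tE_mem_diag (hW : GoodWeyl D) (e : Fin D.rank → Bool) :
    tE D F e ∈ D.diagonalSubgroup F := torC_mem_diag hW _

theorem tE_mem_group (hW : GoodWeyl D) (e : Fin D.rank → Bool) : tE D F e ∈ D.group F :=
  diag_le_group hW (tE_mem_diag hW e)

theorem tE_mul_self (e : Fin D.rank → Bool) : tE D F e * tE D F e = 1 := by
  rw [tE, torC_mul, show sgnC D F e * sgnC D F e = 1 from funext fun k => by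
    by_cases hk : e k <;> simp [sgnC, hk]]
  exact map_one (torHom D F)

theorem torVal_sgnC (e : Fin D.rank → Bool) (r : Root D) :
    torVal (sgnC D F e) (Sum.inr r) = if Fixes D e r then 1 else -1 := by
  have h : torVal (sgnC D F e) (Sum.inr r) = (-1 : Fˣ) ^ par D e r := by
    simp only [torVal, wt_inr, par]
    induction (Finset.univ : Finset (Fin D.rank)) using Finset.cons_induction with
    | empty => simp
    | cons a S ha ih =>
      rw [Finset.prod_cons, Finset.sum_cons, zpow_add, ih]
      by_cases hk : e a <;> simp [sgnC, hk]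
  rw [h]
  by_cases hf : Fixes D e r
  · rw [if_pos hf, (even_iff_two_dvd.2 hf).neg_one_zpow]
  · rw [if_neg hf, (Int.not_even_iff_odd.1 fun he => hf (even_iff_two_dvd.1 he)).neg_one_zpow]

theorem neg_one_ne_one_units (h2 : (2 : F) ≠ 0) : (-1 : Fˣ) ≠ 1 := fun h => h2 (by
  have := congrArg Units.val h
  rw [Units.val_neg, Units.val_one] at this
  linear_combination -this)

theorem torVal_sgnC_eq_one_iff (h2 : (2 : F) ≠ 0) (e : Fin D.rank → Bool) (r : Root D) :
    torVal (sgnC D F e) (Sum.inr r) = 1 ↔ Fixes D e r := by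
  rw [torVal_sgnC]
  by_cases hf : Fixes D e r <;> simp [hf, neg_one_ne_one_units h2]

theorem torC_commute_X_iff (hW : GoodWeyl D) (c : Fin D.rank → Fˣ) (r : Root D) :
    (∀ z : F, Commute (torC D c) (X hW.good r z)) ↔ torVal c (Sum.inr r) = 1 := by
  constructor
  · intro h
    have e := torC_conj_X hW.good c r (1 : F)
    rw [(h 1).eq, mul_inv_cancel_right, mul_one] at e
    exact (Units.ext (X_injective hW.good r e)).symm
  · intro h z
    show torC D c * _ = _ * torC D c
    rw [torC_mul_X hW.good, h, Units.val_one, one_mul]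

theorem tE_commute_X_iff (hW : GoodWeyl D) (h2 : (2 : F) ≠ 0) (e : Fin D.rank → Bool)
    (r : Root D) : (∀ z : F, Commute (tE D F e) (X hW.good r z)) ↔ Fixes D e r := by
  rw [tE, torC_commute_X_iff hW, torVal_sgnC_eq_one_iff h2]

/-- An inverse of the Cartan matrix makes the parametrisation of the torus injective. -/
theorem torC_injective_of_chk (hW : GoodWeyl D) {Q : List (List ℤ)}
    (hQ : chkInverse D Q 0 = true) :
    Function.Injective (torC D : (Fin D.rank → Fˣ) → GL D.Idx F) := by
  suffices H : ∀ c : Fin D.rank → Fˣ, torC D c = (1 : GL D.Idx F) → c = 1 by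
    intro c d hcd
    refine mul_inv_eq_one.1 (H _ ?_)
    show torHom D F (c * d⁻¹) = 1
    rw [map_mul, map_inv, mul_inv_eq_one]
    exact hcd
  intro c hc
  simp only [chkInverse, List.all_eq_true, List.mem_finRange, forall_const, decide_eq_true_eq,
    pow_zero] at hQ
  set Qm : Matrix (Fin D.rank) (Fin D.rank) ℤ := Matrix.of fun j l => (Q.getD j []).getD l 0
    with hQm
  have hmul : cartanMat D * Qm = 1 := by
    ext k l
    rw [Matrix.one_apply, ← hQ k l, ← List.ofFn_eq_map, List.sum_ofFn]
    rfl
  calc c = monAct (cartanMat D * Qm) c := by rw [hmul, monAct_one]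
    _ = monAct Qm (monAct (cartanMat D) c) := monAct_mul _ _ _
    _ = 1 := by rw [(torC_eq_one_iff hW c).1 hc, map_one]

/-- An element of order at most two of the torus has a code. -/
theorem exists_code (hW : GoodWeyl D)
    (hinj : Function.Injective (torC D : (Fin D.rank → Fˣ) → GL D.Idx F))
    {t : GL D.Idx F} (ht : t ∈ D.diagonalSubgroup F) (h2 : t * t = 1) :
    ∃ e : Fin D.rank → Bool, tE D F e = t := by
  classical
  rw [diagonalSubgroup_eq_range hW] at ht
  obtain ⟨c, rfl⟩ := ht
  have hc : c * c = 1 := hinj (by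
    show torHom D F (c * c) = torHom D F 1
    rw [map_mul, map_one]; exact h2)
  refine ⟨fun k => decide (c k ≠ 1), congrArg (torC D) (funext fun k => ?_)⟩
  have hk : (c k : F) * c k = 1 := by
    rw [← Units.val_mul, ← Pi.mul_apply, hc, Pi.one_apply, Units.val_one]
  by_cases h1 : c k = 1
  · simp [sgnC, h1]
  · rcases mul_self_eq_one_iff.1 hk with e | e
    · exact absurd (Units.ext e) h1
    · simp only [sgnC, decide_eq_true_eq, ne_eq, h1, not_false_eq_true, if_true]
      exact Units.ext (by rw [Units.val_neg, Units.val_one, e])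

variable {C : Weyl.Cert D.rank} {M : CoxeterMatrix (Fin D.rank)} {R : Weyl.RootTable}

/-- The elements of the Weyl group which keep the fixed roots of a code. -/
def Stab (h : Weyl.RootGood C M R) (e : Fin D.rank → Bool) (w : M.Group) : Prop :=
  ∀ r, Fixes D e (h.rootPerm w r) ↔ Fixes D e r

/-- A monomial element commutes with the torus element of a code exactly when its Weyl group
element keeps the fixed roots. -/
theorem commute_monomial_iff (hW : GoodWeyl D) (h : Weyl.RootGood C M R) (h2 : (2 : F) ≠ 0)
    (e : Fin D.rank → Bool) {n : GL D.Idx F} (hn : n ∈ D.monomialSubgroup F) {w : M.Group}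
    (hw : MonBy hW n (h.rootPerm w)) : Commute (tE D F e) n ↔ Stab h e w := by
  have key : ∀ r (z : F), n⁻¹ * tE D F e * n * X hW.good r z * (n⁻¹ * tE D F e * n)⁻¹ =
      X hW.good r ((torVal (sgnC D F e) (Sum.inr (h.rootPerm w r)) : F) * z) := by
    intro r z
    obtain ⟨c, hc⟩ := hw.conj_X r
    have e1 : tE D F e * (n * X hW.good r z * n⁻¹) * (tE D F e)⁻¹ =
        n * X hW.good r ((torVal (sgnC D F e) (Sum.inr (h.rootPerm w r)) : F) * z) * n⁻¹ := by
      rw [hc, hc, tE, torC_conj_X hW.good, mul_left_comm]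
    calc _ = n⁻¹ * (tE D F e * (n * X hW.good r z * n⁻¹) * (tE D F e)⁻¹) * n := by group
      _ = _ := by rw [e1]; group
  constructor
  · intro hc r
    have e1 := key r 1
    rw [show n⁻¹ * tE D F e * n = tE D F e by rw [mul_assoc, hc.eq, inv_mul_cancel_left], tE,
      torC_conj_X hW.good] at e1
    have e2 := X_injective hW.good r e1
    simp only [mul_one] at e2
    rw [← torVal_sgnC_eq_one_iff h2 e, ← torVal_sgnC_eq_one_iff h2 e, Units.ext e2]
  · intro hs
    have hd : n⁻¹ * tE D F e * n ∈ D.diagonalSubgroup F :=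
      (Subgroup.mem_normalizer_iff''.1 (monomial_le_normalizer hW hn) _).1 (tE_mem_diag hW e)
    have h1 : n⁻¹ * tE D F e * n * (tE D F e)⁻¹ = 1 := by
      refine eq_one_of_diag_comm hW (mul_mem hd (inv_mem (tE_mem_diag hW e))) fun r =>
        mul_inv_eq_iff_eq_mul.1 ?_
      have hv : torVal (sgnC D F e) (Sum.inr (h.rootPerm w r)) =
          torVal (sgnC D F e) (Sum.inr r) := by
        rw [torVal_sgnC, torVal_sgnC]
        simp only [hs r]
      calc _ = n⁻¹ * tE D F e * n * ((tE D F e)⁻¹ * X hW.good r 1 * tE D F e) *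
            (n⁻¹ * tE D F e * n)⁻¹ := by group
        _ = X hW.good r 1 := by
          have e3 : (tE D F e)⁻¹ = tE D F e := inv_eq_of_mul_eq_one_right (tE_mul_self e)
          have e4 : (tE D F e)⁻¹ * X hW.good r 1 * tE D F e =
              X hW.good r ((torVal (sgnC D F e) (Sum.inr r) : F) * 1) := by
            rw [e3, ← torC_conj_X hW.good, ← tE, e3]
          rw [e4, key, hv, ← mul_assoc, ← Units.val_mul]
          congr 1
          rw [torVal_sgnC]
          by_cases hf : Fixes D e r <;> simp [hf]
    rw [mul_inv_eq_one, mul_assoc, inv_mul_eq_iff_eq_mul] at h1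
    exact h1

end CfsgLib.InvOdd
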